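import Mathlib
import Cfsg.Agent.LieClassical.OrthTrans
import Cfsg.Agent.LieClassical.OrthFinite
import Cfsg.Agent.ClassicalGeometry.OrthDickson
import Cfsg.Agent.AutOrth.Main

/-!
# Isometries in `E Q` (helper587, S4822 KB8)

* `sq_mem_E`, `mem_E_of_odd` : squares and elements of odd order;
* `sgn` : the Dickson sign (helper48's `DsO8m`), `mem_E_of_sgn` : characteristic two.
-/

set_option autoImplicit false
set_option linter.unusedSectionVars false

open QuadraticMap Module Cfsg.Agent.LieClassical.OrthCore Cfsg.Agent.LieClassical.OrthTrans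
open Cfsg.Agent.LieClassical.OrthFinite Cfsg.Agent.ClassicalGeometry

namespace Cfsg.Agent.H587.KB8

section

variable {F V : Type*} [Field F] [AddCommGroup V] [Module F V] [FiniteDimensional F V] {Q : QuadraticForm F V}

open scoped commutatorElement in
theorem sq_mem_E (hG : Good Q) {g : V ≃ₗ[F] V} (hg : g ∈ O Q) : g * g ∈ E Q := by
  have hcomm : ∀ a b : V ≃ₗ[F] V, a ∈ O Q → b ∈ O Q → ⁅a, b⁆ ∈ E Q := fun a b ha hb =>
    hG.commutator_le_E (Subgroup.commutator_mem_commutator ha hb)
  have key : ∀ g ∈ Subgroup.closure (reflSet Q ∪ siegelSet Q), g * g ∈ E Q := by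
    intro g hg
    induction hg using Subgroup.closure_induction with
    | mem x hx =>
      rcases hx with ⟨v, hv, rfl⟩ | ⟨u, w, hu, hw, rfl⟩
      · rw [refl_mul_self]; exact (E Q).one_mem
      · exact (E Q).mul_mem (siegel_mem_E hu hw) (siegel_mem_E hu hw)
    | one => rw [mul_one]; exact (E Q).one_mem
    | mul x y hx hy hxx hyy =>
      rw [← O_eq_closure hG.nondeg] at hx hy
      have h1 := hcomm x⁻¹ y ((O Q).inv_mem hx) hy
      have e : x * y * (x * y) = (x * x) * ⁅x⁻¹, y⁆ * (y * y) := by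
        rw [commutatorElement_def]; group
      rw [e]
      exact (E Q).mul_mem ((E Q).mul_mem hxx h1) hyy
    | inv x hx hxx =>
      have e : x⁻¹ * x⁻¹ = (x * x)⁻¹ := by group
      rw [e]
      exact (E Q).inv_mem hxx
  rw [O_eq_closure hG.nondeg] at hg
  exact key g hg

theorem mem_E_of_odd (hG : Good Q) {g : V ≃ₗ[F] V} (hg : g ∈ O Q) {n : ℕ} (hn : Odd n) (h : g ^ n = 1) : g ∈ E Q := by
  obtain ⟨k, hk⟩ := hn
  have h1 : g = g ^ (k + 1) * g ^ (k + 1) := by
    rw [← pow_add, show k + 1 + (k + 1) = n + 1 by omega, pow_succ, h, one_mul]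
  rw [h1]
  exact sq_mem_E hG ((O Q).pow_mem hg _)

end

section Sign

variable {ι : Type} [Fintype ι] [DecidableEq ι] {F : Type*} [Field F] {Q : QuadraticForm F (ι → F)}
  (hQ : (polarBilin Q).Nondegenerate) (h4 : (∃ θ : F, θ ≠ 0 ∧ θ ≠ 1) ∨ Fintype.card ι ≠ 4)

/-- the Dickson sign on the group of linear isometries -/
noncomputable def sgn : O Q →* ℤˣ := (OrthDickson.dsignHom Q hQ h4).comp (isometryEquiv Q).symm.toMonoidHom

/-- the fixed space -/
def fx (k : (ι → F) ≃ₗ[F] (ι → F)) : Submodule F (ι → F) := LinearMap.eqLocus k.toLinearMap LinearMap.id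

theorem mem_fx {k : (ι → F) ≃ₗ[F] (ι → F)} {v : ι → F} : v ∈ fx k ↔ k v = v := Iff.rfl

theorem sgn_eq (k : O Q) : sgn hQ h4 k = (-1) ^ (finrank F (fx k.1) + Fintype.card ι) := by
  obtain ⟨g, rfl⟩ := (isometryEquiv Q).surjective k
  have h1 : sgn hQ h4 (isometryEquiv Q g) = OrthDickson.dsign Q g := by
    change OrthDickson.dsign Q ((isometryEquiv Q).symm (isometryEquiv Q g)) = _
    rw [MulEquiv.symm_apply_apply]
  rw [h1, OrthDickson.dsign_def]
  rfl

theorem sgn_refl {v : ι → F} (hv : Q v ≠ 0) : sgn hQ h4 ⟨refl Q v hv, refl_mem_O hv⟩ = -1 := by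
  have h1 : isometryEquiv Q (Reflection.reflIso Q v hv) = ⟨refl Q v hv, refl_mem_O hv⟩ := by
    apply Subtype.ext
    ext1 x
    rw [isometryEquiv_apply, Reflection.coe_reflIso, Reflection.reflectionMatrix_mulVec]
    exact (refl_apply hv x).symm
  rw [← h1]
  change OrthDickson.dsign Q ((isometryEquiv Q).symm (isometryEquiv Q _)) = _
  rw [MulEquiv.symm_apply_apply, OrthDickson.dsign_refl Q hQ]

theorem sgn_E (hG : Good Q) (k : O Q) (hk : k.1 ∈ E Q) : sgn hQ h4 k = 1 := by
  obtain ⟨g, hg⟩ := (omegaEquiv Q).surjective ⟨k.1, by rw [hG.commutator_eq_E]; exact hk⟩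
  have h1 : isometryEquiv Q g.1 = k := by
    apply Subtype.ext
    ext1 v
    have h2 : (omegaEquiv Q g : (ι → F) ≃ₗ[F] (ι → F)) v = k.1 v := by rw [hg]
    exact h2
  rw [← h1]
  change OrthDickson.dsign Q ((isometryEquiv Q).symm (isometryEquiv Q _)) = _
  rw [MulEquiv.symm_apply_apply]
  exact OrthDickson.dsign_eq_one_of_mem_commutator Q hQ h4 _ g.2

/-- in characteristic two `E Q` is the kernel of the sign -/
theorem mem_E_of_sgn [Finite F] (h2 : (2 : F) = 0) (hG : Good Q) (k : O Q) (hk : sgn hQ h4 k = 1) : k.1 ∈ E Q := by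
  obtain ⟨x, y, hxy⟩ := hG.exists_hyp
  have hv0 : Q (x + y) ≠ 0 := by
    rw [Q_add, hxy.left, hxy.right, hxy.pair]
    simp
  set r := refl Q (x + y) hv0 with hr
  have hrO : r ∈ O Q := refl_mem_O hv0
  have hrr : r * r = 1 := refl_mul_self hv0
  have hrE : ∀ (v : ι → F) (hv : Q v ≠ 0), r * refl Q v hv ∈ E Q := by
    intro v hv
    obtain ⟨c, hc⟩ := OrthDickson.exists_sq_of_two h2 ((Q v)⁻¹ * Q (x + y))
    have hc0 : c ≠ 0 := by
      rintro rfl
      rw [mul_zero] at hc
      exact mul_ne_zero (inv_ne_zero hv) hv0 hc.symm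
    have h1 : Q (c • v) = Q (x + y) := by
      rw [QuadraticMap.map_smul, hc, smul_eq_mul]
      field_simp
    have h3 : Q (c • v) ≠ 0 := by rw [h1]; exact hv0
    have h4 := hG.refl_mul_refl_mem h3 hv0 h1
    rwa [refl_smul hv hc0 h3] at h4
  have key : ∀ g ∈ Subgroup.closure (reflSet Q ∪ siegelSet Q), g ∈ E Q ∨ r * g ∈ E Q := by
    intro g hg
    induction hg using Subgroup.closure_induction with
    | mem z hz =>
      rcases hz with ⟨v, hv, rfl⟩ | ⟨u, w, hu, hw, rfl⟩
      · exact Or.inr (hrE v hv)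
      · exact Or.inl (siegel_mem_E hu hw)
    | one => exact Or.inl (E Q).one_mem
    | mul a b ha hb haE hbE =>
      rw [← O_eq_closure hG.nondeg] at ha hb
      rcases haE with ha1 | ha1 <;> rcases hbE with hb1 | hb1
      · exact Or.inl ((E Q).mul_mem ha1 hb1)
      · right
        have e : r * (a * b) = (r * a * r⁻¹) * (r * b) := by group
        rw [e]
        exact (E Q).mul_mem (conj_mem_E hrO ha1) hb1
      · right
        rw [← mul_assoc]
        exact (E Q).mul_mem ha1 hb1
      · left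
        have e : a * b = (r * (r * a) * r⁻¹) * (r * b) := by
          rw [← mul_assoc r r a, hrr, one_mul]; group
        rw [e]
        exact (E Q).mul_mem (conj_mem_E hrO ha1) hb1
    | inv a ha haE =>
      rw [← O_eq_closure hG.nondeg] at ha
      rcases haE with ha1 | ha1
      · exact Or.inl ((E Q).inv_mem ha1)
      · right
        have e : r * a⁻¹ = r * (r * a)⁻¹ * r⁻¹ * (r * r) := by group
        rw [e, hrr, mul_one]
        exact conj_mem_E hrO ((E Q).inv_mem ha1)
  have h1 : k.1 ∈ Subgroup.closure (reflSet Q ∪ siegelSet Q) := by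
    rw [← O_eq_closure hG.nondeg]; exact k.2
  rcases key k.1 h1 with h | h
  · exact h
  · exfalso
    have h3 := sgn_E hQ h4 hG (⟨r, hrO⟩ * k) h
    rw [map_mul, hk, mul_one, sgn_refl] at h3
    exact absurd h3 (by decide)

end Sign

end Cfsg.Agent.H587.KB8
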