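import Cfsg.Agent.H296.KB.Rank
import Cfsg.Agent.H634.Quot
import Cfsg.Agent.ClassicalGeometry.OrthAut1

/-!
# Lower bounds for `k(B₀)` from a family of elements (helper587, S4822 KB8)
-/

set_option autoImplicit false
set_option linter.unusedSectionVars false

open Cfsg Subgroup Cfsg.Agent.H508.KB
open QuadraticMap Cfsg.Agent.LieClassical.OrthCore Cfsg.Agent.LieClassical.OrthTrans
  Cfsg.Agent.ClassicalGeometry.OrthAut1

namespace Cfsg.Agent.H587.KB8

universe u

variable {p : ℕ} [Fact p.Prime] {M : Ideal AlgInt}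

theorem family_le {G : Type u} [Group G] [Finite G] (hM : IsPModular p M) {ι : Type*} [Fintype ι] (f : ι → G)
    (hf : ∀ i, f i ^ p = 1) (hinj : ∀ i j, IsConj (f i) (f j) → i = j) (l : ι → ℕ)
    (hl : ∀ i, l i ≤ blockRank p (principalBlock M ↥(centralizer ({f i} : Set G)))) : ∑ i, l i ≤ kB M G := by
  classical
  have hinj' : Function.Injective f := fun i j h => hinj i j (by rw [h])
  have h1 := Cfsg.Agent.H296.KB.sum_le_kB hM (Finset.univ.image f) (fun x hx => ?_) (fun x hx y hy hxy => ?_)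
  · rw [Finset.sum_image fun i _ j _ h => hinj' h] at h1
    exact (Finset.sum_le_sum fun i _ => hl i).trans h1
  · obtain ⟨i, -, rfl⟩ := Finset.mem_image.1 hx
    obtain ⟨k, -, hk⟩ := (Nat.dvd_prime_pow (Fact.out : p.Prime)).1 (by
      rw [pow_one]; exact orderOf_dvd_of_pow_eq_one (hf i) : orderOf (f i) ∣ p ^ 1)
    exact ⟨k, hk⟩
  · obtain ⟨i, -, rfl⟩ := Finset.mem_image.1 hx
    obtain ⟨j, -, rfl⟩ := Finset.mem_image.1 hy
    rw [hinj i j hxy]

theorem one_le {G : Type u} [Group G] [Finite G] (hM : IsPModular p M) (x : G) :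
    1 ≤ blockRank p (principalBlock M ↥(centralizer ({x} : Set G))) := Cfsg.Agent.H296.KB.one_le_rank hM

theorem two_le {G : Type u} [Group G] [Finite G] (hM : IsPModular p M) (hp2 : p ≠ 2) {x y c : G} (hxy : Commute x y)
    (hxc : Commute x c) (hy : y ^ p = 1) (hy1 : y ≠ 1) (hc : c ^ 4 = 1) (hcy : c * y * c⁻¹ = y⁻¹) :
    2 ≤ blockRank p (principalBlock M ↥(centralizer ({x} : Set G))) := by
  have hp : p.Prime := Fact.out
  have hyC : y ∈ centralizer ({x} : Set G) := mem_centralizer_singleton_iff.2 hxy.symm.eq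
  have hcC : c ∈ centralizer ({x} : Set G) := mem_centralizer_singleton_iff.2 hxc.symm.eq
  have hoy : orderOf y = p := orderOf_eq_prime hy hy1
  refine Cfsg.Agent.H296.KB.two_le_rank hM (zpowers (⟨y, hyC⟩ : ↥(centralizer ({x} : Set G)))) ?_ ⟨c, hcC⟩ ?_ ?_
    ⟨y, hyC⟩ (mem_zpowers _) ?_
  · refine IsPGroup.of_card (n := 1) ?_
    rw [Nat.card_zpowers, Subgroup.orderOf_mk, hoy, pow_one]
  · rw [Subgroup.orderOf_mk]
    intro h
    have h1 : p ∣ 2 ^ 2 := h.trans (orderOf_dvd_of_pow_eq_one hc)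
    exact hp2 ((Nat.prime_dvd_prime_iff_eq hp Nat.prime_two).1 (hp.dvd_of_dvd_pow h1))
  · rintro _ ⟨k, rfl⟩
    refine ⟨-k, ?_⟩
    apply Subtype.ext
    change (((⟨y, hyC⟩ : ↥(centralizer ({x} : Set G))) ^ (-k) : ↥(centralizer ({x} : Set G))) : G) =
      c * (((⟨y, hyC⟩ : ↥(centralizer ({x} : Set G))) ^ k : ↥(centralizer ({x} : Set G))) : G) * c⁻¹
    rw [Subgroup.coe_zpow, Subgroup.coe_zpow, ← conj_zpow, hcy, inv_zpow, zpow_neg]
  · intro h
    have h1 : c * y = y * c := congrArg Subtype.val h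
    rw [h1, mul_inv_cancel_right] at hcy
    apply hy1
    have h2 : y ^ 2 = 1 := by
      rw [pow_two]
      nth_rewrite 1 [hcy]
      exact inv_mul_cancel y
    have h3 : orderOf y ∣ 2 := orderOf_dvd_of_pow_eq_one h2
    rw [hoy] at h3
    exact absurd ((Nat.prime_dvd_prime_iff_eq hp Nat.prime_two).1 h3) hp2

section

variable {F V : Type u} [Field F] [AddCommGroup V] [Module F V] {Q : QuadraticForm F V}

theorem not_dvd_center (hG : Good Q) [Finite ↥(E Q)] (hp2 : p ≠ 2) : ¬ p ∣ Nat.card (center ↥(E Q)) := by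
  intro h
  obtain ⟨z, hz⟩ := exists_prime_orderOf_dvd_card' p h
  obtain ⟨c, hc⟩ := center_scalar hG z.2
  obtain ⟨x, y, hxy⟩ := hG.exists_hyp
  have hv : Q (x + y) = 1 := by
    rw [Q_add, hxy.left, hxy.right, hxy.pair]
    ring
  have h1 : c * c = 1 := by
    have h2 := E_le_O z.1.2 (x + y)
    rw [hc, QuadraticMap.map_smul, hv, smul_eq_mul, mul_one] at h2
    exact h2
  have h2 : z ^ 2 = 1 := by
    apply Subtype.ext
    apply Subtype.ext
    ext v
    change z.1.1 (z.1.1 v) = v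
    rw [hc, hc, smul_smul, h1, one_smul]
  have h3 : orderOf z ∣ 2 := orderOf_dvd_of_pow_eq_one h2
  rw [hz] at h3
  exact hp2 ((Nat.prime_dvd_prime_iff_eq (Fact.out : p.Prime) Nat.prime_two).1 h3)

theorem kB_P (hM : IsPModular p M) (hG : Good Q) [Finite ↥(E Q)] (hp2 : p ≠ 2) : kB M (P Q) = kB M ↥(E Q) :=
  Cfsg.Agent.H634.Quot.card_quot hM _ (not_dvd_center hG hp2)

end

end Cfsg.Agent.H587.KB8
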