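import Cfsg.Agent.H587.KB8.Field
import Cfsg.Agent.H932.TypeClass
import Cfsg.Agent.LieClassical.OrthForms

/-!
# Models of the hyperbolic space of dimension eight (helper587, S4822 KB8)
-/

set_option autoImplicit false
set_option linter.unusedSectionVars false

open QuadraticMap Module Cfsg.Agent.LieClassical.OrthCore Cfsg.Agent.LieClassical.OrthForms Cfsg.Agent.H932

namespace Cfsg.Agent.H587.KB8

theorem pl_plusForm (m : ℕ) (F : Type*) [Field F] : Pl (plusForm m F) := by
  let f : (Fin m → F) →ₗ[F] (Fin m ⊕ Fin m → F) :=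
    { toFun := fun v => Sum.elim v 0
      map_add' := fun v w => by ext i; rcases i with i | i <;> simp
      map_smul' := fun c v => by ext i; rcases i with i | i <;> simp }
  have hf : Function.Injective f := fun v w h => by
    ext i
    exact congrFun h (.inl i)
  refine ⟨LinearMap.range f, ?_, ?_⟩
  · rintro _ ⟨v, rfl⟩
    have h1 : plusForm m F (f v) = Cfsg.quadFormPlus m F (f v) := congrFun (coe_plusForm m F) _
    rw [h1]
    refine Finset.sum_eq_zero fun i _ => ?_
    change v i * 0 = 0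
    rw [mul_zero]
  · rw [LinearMap.finrank_range_of_inj hf]
    simp
    ring

/-- spaces of plus type of dimension eight -/
theorem exists_psi {F : Type*} [Field F] [Finite F] {W : Type*} [AddCommGroup W] [Module F W] [FiniteDimensional F W]
    (q : QuadraticForm F W) (hq : Nondeg q) (hd : finrank F W = 8) (hp : Pl q) :
    ∃ ψ : W ≃ₗ[F] (Fin 4 ⊕ Fin 4 → F), ∀ w, plusForm 4 F (ψ w) = q w := by
  refine exists_isometry hq (nondeg_plusForm 4 F) (by rw [hd]; decide) ?_ ⟨fun _ => pl_plusForm 4 F, fun _ => hp⟩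
  rw [hd]
  simp

/-- roots in cyclic groups -/
theorem exists_root {G : Type*} [Group G] [Finite G] [IsCyclic G] {m n : ℕ} (h : Nat.card G = m * n) {x : G}
    (hx : x ^ m = 1) : ∃ y, y ^ n = x := by
  obtain ⟨g, hg⟩ := IsCyclic.exists_monoid_generator (α := G)
  have ho : orderOf g = Nat.card G := orderOf_eq_card_of_forall_mem_zpowers fun y =>
    Submonoid.powers_le_zpowers g (hg y)
  obtain ⟨j, hj⟩ := hg x
  have hj' : g ^ j = x := hj
  have hm : 0 < m := by
    rw [Nat.pos_iff_ne_zero]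
    rintro rfl
    rw [zero_mul] at h
    exact Nat.card_pos.ne' h
  have h1 : Nat.card G ∣ j * m := by
    rw [← ho]
    apply orderOf_dvd_of_pow_eq_one
    rw [pow_mul, hj', hx]
  rw [h, mul_comm j m] at h1
  obtain ⟨k, hk⟩ := Nat.dvd_of_mul_dvd_mul_left hm h1
  exact ⟨g ^ k, by rw [← hj', hk, ← pow_mul, mul_comm]⟩

section

variable (F K : Type*) [Field F] [Fintype F] [Field K] [Finite K] [Algebra F K]

/-- the Frobenius automorphism -/
noncomputable abbrev fr : K ≃ₐ[F] K :=
  haveI : FiniteDimensional F K := Module.Finite.of_finite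
  FiniteField.frobeniusAlgEquivOfAlgebraic F K

variable {F K}

theorem fr_apply (x : K) : fr F K x = x ^ Fintype.card F := by
  have : FiniteDimensional F K := Module.Finite.of_finite
  exact congrFun (FiniteField.coe_frobeniusAlgEquivOfAlgebraic F K) x

theorem fr_fr (x : K) : fr F K (fr F K x) = x ^ (Fintype.card F ^ 2) := by
  rw [fr_apply, fr_apply, ← pow_mul, pow_two]

theorem nm_eq (x : K) : nm (fr F K) x = x ^ (Fintype.card F ^ 2 + 1) := by
  rw [nm, fr_fr, pow_succ x, mul_comm]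

variable (hK : finrank F K = 4)

include hK

theorem quart' : Quart F K (fr F K) := quart hK

theorem card_units_K : Nat.card Kˣ = (Fintype.card F ^ 2 - 1) * (Fintype.card F ^ 2 + 1) := by
  rw [Nat.card_units, Module.natCard_eq_pow_finrank (K := F), hK, Nat.card_eq_fintype_card]
  have h1 : 1 ≤ Fintype.card F ^ 2 := Nat.one_le_pow _ _ Fintype.card_pos
  obtain ⟨k, hk⟩ := Nat.exists_eq_add_of_le h1
  have h2 : Fintype.card F ^ 4 = (Fintype.card F ^ 2) ^ 2 := by ring
  rw [h2, hk, show 1 + k - 1 = k by omega]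
  have h3 : (1 + k) ^ 2 = k * (1 + k + 1) + 1 := by ring
  rw [h3, Nat.add_sub_cancel]

theorem exists_nm (c : F) (hc : c ≠ 0) : ∃ w : K, nm (fr F K) w = algebraMap F K c := by
  have hc' : algebraMap F K c ≠ 0 := by simpa using hc
  have h1 : (Units.mk0 _ hc') ^ (Fintype.card F ^ 2 - 1) = 1 := by
    apply Units.ext
    rw [Units.val_pow_eq_pow_val, Units.val_mk0, Units.val_one, ← map_pow]
    have h2 : c ^ (Fintype.card F - 1) = 1 := FiniteField.pow_card_sub_one_eq_one c hc
    have h3 : Fintype.card F - 1 ∣ Fintype.card F ^ 2 - 1 := by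
      simpa using Nat.sub_dvd_pow_sub_pow (Fintype.card F) 1 2
    obtain ⟨k, hk⟩ := h3
    rw [hk, pow_mul, h2, one_pow, map_one]
  obtain ⟨y, hy⟩ := exists_root (card_units_K hK) h1
  refine ⟨(y : K), ?_⟩
  rw [nm_eq, ← Units.val_pow_eq_pow_val, hy, Units.val_mk0]

theorem exists_half (h2 : (2 : F) ≠ 0) : ∃ a : K, 2 * (a * a) = 1 ∧ fr F K (fr F K a) = a := by
  have hodd : Fintype.card F % 2 = 1 := by
    rcases Nat.mod_two_eq_zero_or_one (Fintype.card F) with h | h
    · exfalso
      have h3 := FiniteField.even_card_iff_char_two.2 h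
      apply h2
      have h4 : ((ringChar F : ℕ) : F) = 0 := ringChar.Nat.cast_ringChar
      rw [h3] at h4
      exact_mod_cast h4
    · exact h
  have h20 : (2 : K) ≠ 0 := by
    have h3 : algebraMap F K 2 ≠ 0 := by
      rw [Ne, map_eq_zero]
      exact h2
    rwa [map_ofNat] at h3
  have hc' : (2 : K)⁻¹ ≠ 0 := inv_ne_zero h20
  -- `(q² - 1) / 2 = (q - 1) (q + 1) / 2`
  obtain ⟨k, hk⟩ : ∃ k, Fintype.card F = 2 * k + 1 := ⟨Fintype.card F / 2, by omega⟩
  have hm : Nat.card Kˣ = ((Fintype.card F - 1) * (k + 1)) * (2 * (Fintype.card F ^ 2 + 1)) := by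
    rw [card_units_K hK]
    have h3 : Fintype.card F ^ 2 - 1 = (Fintype.card F - 1) * (k + 1) * 2 := by
      rw [hk]
      have : (2 * k + 1) ^ 2 = (2 * k) * (k + 1) * 2 + 1 := by ring
      rw [this, Nat.add_sub_cancel, Nat.add_sub_cancel]
    rw [h3]; ring
  have h1 : (Units.mk0 _ hc') ^ ((Fintype.card F - 1) * (k + 1)) = 1 := by
    apply Units.ext
    rw [Units.val_pow_eq_pow_val, Units.val_mk0, Units.val_one, pow_mul]
    have h3 : (2 : K)⁻¹ ^ (Fintype.card F - 1) = 1 := by
      have h4 : (2 : F)⁻¹ ^ (Fintype.card F - 1) = 1 :=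
        FiniteField.pow_card_sub_one_eq_one _ (inv_ne_zero h2)
      have h5 := congrArg (algebraMap F K) h4
      rwa [map_pow, map_inv₀, map_ofNat, map_one] at h5
    rw [h3, one_pow]
  obtain ⟨y, hy⟩ := exists_root hm h1
  refine ⟨(y : K) ^ (Fintype.card F ^ 2 + 1), ?_, ?_⟩
  · have h3 : (y : K) ^ (Fintype.card F ^ 2 + 1) * (y : K) ^ (Fintype.card F ^ 2 + 1) =
        ((y ^ (2 * (Fintype.card F ^ 2 + 1)) : Kˣ) : K) := by
      rw [Units.val_pow_eq_pow_val, ← pow_add]
      congr 1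
      ring
    rw [h3, hy, Units.val_mk0, mul_inv_cancel₀ h20]
  · rw [fr_fr, ← pow_mul]
    have h3 : (Fintype.card F ^ 2 + 1) * Fintype.card F ^ 2 = Nat.card Kˣ + (Fintype.card F ^ 2 + 1) := by
      rw [card_units_K hK]
      have h1 : 1 ≤ Fintype.card F ^ 2 := Nat.one_le_pow _ _ Fintype.card_pos
      obtain ⟨j, hj⟩ := Nat.exists_eq_add_of_le h1
      rw [hj, show 1 + j - 1 = j by omega]
      ring
    have h4 : (y : K) ^ Nat.card Kˣ = 1 := by
      rw [← Units.val_pow_eq_pow_val, pow_card_eq_one', Units.val_one]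
    rw [h3, pow_add, h4, one_mul]

theorem exists_zeta {p : ℕ} [Fact p.Prime] (hp : p ∣ Fintype.card F ^ 2 + 1) :
    ∃ z : K, z ^ p = 1 ∧ z ≠ 1 := by
  have h1 : p ∣ Nat.card Kˣ := by
    rw [card_units_K hK]
    exact Dvd.dvd.mul_left hp _
  obtain ⟨x, hx⟩ := exists_prime_orderOf_dvd_card' p h1
  refine ⟨(x : K), ?_, fun h => ?_⟩
  · rw [← Units.val_pow_eq_pow_val, ← hx, pow_orderOf_eq_one, Units.val_one]
  · have h2 : x = 1 := Units.ext h
    rw [h2, orderOf_one] at hx
    exact (Fact.out : p.Prime).one_lt.ne hx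

/-- **the model** -/
theorem exists_model : ∃ (Q₁ : QuadraticForm F K) (ψ : (K × K) ≃ₗ[F] (Fin 4 ⊕ Fin 4 → F)),
    (∀ x, algebraMap F K (Q₁ x) = nm (fr F K) x + fr F K (nm (fr F K) x)) ∧
      ∀ w, plusForm 4 F (ψ w) = Q₁ w.1 + Q₁ w.2 := by
  have hfd : FiniteDimensional F K := Module.Finite.of_finite
  obtain ⟨Q₁, hQ, hnd⟩ := (quart' hK).exists_form
  obtain ⟨w, hw⟩ := exists_nm hK (-1 : F) (by simp)
  have hpol : ∀ a b : K × K, polar (Q₁.prod Q₁) a b = polar Q₁ a.1 b.1 + polar Q₁ a.2 b.2 := by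
    intro a b
    simp only [polar, QuadraticMap.prod_apply, Prod.fst_add, Prod.snd_add]
    abel
  have hnd' : Nondeg (Q₁.prod Q₁) := by
    intro a ha
    refine Prod.ext (hnd _ fun y => ?_) (hnd _ fun y => ?_)
    · have h1 := ha (y, 0)
      rwa [hpol, polar_zero_right, add_zero] at h1
    · have h1 := ha (0, y)
      rwa [hpol, polar_zero_right, zero_add] at h1
  have hpl : Pl (Q₁.prod Q₁) := by
    let f : K →ₗ[F] (K × K) := LinearMap.prod LinearMap.id (LinearMap.mulLeft F w)
    have hf : Function.Injective f := fun a b h => congrArg Prod.fst h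
    refine ⟨LinearMap.range f, ?_, ?_⟩
    · rintro _ ⟨v, rfl⟩
      apply (algebraMap F K).injective
      rw [QuadraticMap.prod_apply, map_add, map_zero]
      change algebraMap F K (Q₁ v) + algebraMap F K (Q₁ (w * v)) = 0
      rw [hQ, hQ, nm_mul, hw, map_mul, map_neg, map_neg, map_one, map_one]
      ring
    · rw [LinearMap.finrank_range_of_inj hf, Module.finrank_prod, hK]
  obtain ⟨ψ, hψ⟩ := exists_psi (Q₁.prod Q₁) hnd' (by rw [Module.finrank_prod, hK]) hpl
  exact ⟨Q₁, ψ, hQ, fun v => by rw [hψ, QuadraticMap.prod_apply]⟩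

end

end Cfsg.Agent.H587.KB8
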