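import Cfsg.Agent.H587.KB8.Four
import Cfsg.Agent.H587.KB8.Fam
import Cfsg.Agent.H587.KB8.Model
import Cfsg.Agent.ClassicalGeometry.PSL2Basic

/-!
# `5 (p - 1) + 1 ≤ k(B₀(PΩ₈⁺(q)))` for `p ∣ q² - 1` (helper587, S4822 KB8)
-/

set_option autoImplicit false
set_option linter.unusedSectionVars false

open QuadraticMap Module Cfsg Cfsg.Agent.LieClassical.OrthCore Cfsg.Agent.LieClassical.OrthTrans
open Cfsg.Agent.LieClassical.OrthFinite Cfsg.Agent.ClassicalGeometry Cfsg.Agent.H508.KB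
open Cfsg.Agent.ClassicalGeometry.OrthAut1 Cfsg.Agent.H932

namespace Cfsg.Agent.H587.KB8

section abs

variable {F V : Type*} [Field F] [AddCommGroup V] [Module F V] {z : V ≃ₗ[F] V} {p : ℕ} [Fact p.Prime]

theorem fix_zero (hz : z ^ p = 1) (hz1 : z ≠ 1) (hpF : (p : F) ≠ 0) {c : F}
    (hc : ∀ v, z v + z⁻¹ v = c • v) {v : V} (hv : z v = v) : v = 0 := by
  by_contra h0
  have hv' : z⁻¹ v = v := by
    calc z⁻¹ v = z⁻¹ (z v) := by rw [hv]
      _ = v := z.symm_apply_apply v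
  have h1 : c = 2 := by
    have h2 := hc v
    rw [hv, hv', ← two_smul F v] at h2
    exact (smul_left_injective F h0 h2).symm
  apply hz1
  ext w
  set u := z w - w with hu
  have h3 : z (z w) = (2 : F) • z w - w := by
    have h4 := hc (z w)
    rw [h1] at h4
    have h5 : z⁻¹ (z w) = w := z.symm_apply_apply w
    rw [h5] at h4
    rw [← h4]
    abel
  have hzu : z u = u := by
    rw [hu, map_sub, h3, two_smul]
    abel
  have hpow : ∀ n : ℕ, (z ^ n) w = w + n • u := by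
    intro n
    induction n with
    | zero => simp
    | succ n ih =>
      rw [pow_succ', LinearEquiv.mul_apply, ih, map_add, map_nsmul, hzu, succ_nsmul, hu]
      abel
  have h6 := hpow p
  rw [hz] at h6
  have h7 : p • u = 0 := by
    have h8 : w = w + p • u := h6
    exact left_eq_add.1 h8
  rw [← Nat.cast_smul_eq_nsmul F] at h7
  have h8 := (smul_eq_zero.1 h7).resolve_left hpF
  change z w = w
  exact sub_eq_zero.1 h8

theorem pow_fix_zero (hz : z ^ p = 1) (hz1 : z ≠ 1) (hpF : (p : F) ≠ 0) {c : F}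
    (hc : ∀ v, z v + z⁻¹ v = c • v) {m : ℕ} (hm0 : 0 < m) (hm : m < p) {v : V} (hv : (z ^ m) v = v) : v = 0 := by
  apply fix_zero hz hz1 hpF hc
  have hco : Nat.Coprime (orderOf z) m :=
    Nat.Coprime.coprime_dvd_left (orderOf_dvd_of_pow_eq_one hz)
      (Nat.coprime_of_lt_prime hm0.ne' hm (Fact.out : p.Prime))
  obtain ⟨n, hn⟩ := exists_pow_eq_self_of_coprime hco.symm
  have h4 : ∀ n : ℕ, ((z ^ m) ^ n) v = v := by
    intro n
    induction n with
    | zero => rfl
    | succ n ih => rw [pow_succ, LinearEquiv.mul_apply, hv, ih]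
  have h5 := h4 n
  rwa [hn] at h5

theorem c_inj_aux [Nontrivial V] (hz : z ^ p = 1) (hz1 : z ≠ 1) (hpF : (p : F) ≠ 0) {c : ℕ → F}
    (hc : ∀ k v, (z ^ k) v + (z ^ k)⁻¹ v = c k • v) {k l : ℕ} (hk : 2 * k < p) (hlk : l < k) (h : c k = c l) :
    False := by
  have hc1 : ∀ v, z v + z⁻¹ v = c 1 • v := fun v => by
    have := hc 1 v
    rwa [pow_one] at this
  obtain ⟨v, hv⟩ := exists_ne (0 : V)
  apply hv
  -- `w = z ^ k v - z ^ (- l) v`
  set w := (z ^ k) v - (z ^ l)⁻¹ v with hw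
  have hinv : ∀ (n : ℕ) (x : V), (z ^ n) ((z ^ n)⁻¹ x) = x := fun n x => (z ^ n).apply_symm_apply x
  have hinv' : ∀ (n : ℕ) (x : V), (z ^ n)⁻¹ ((z ^ n) x) = x := fun n x => (z ^ n).symm_apply_apply x
  have hcomm : ∀ (m n : ℕ) (x : V), (z ^ m) ((z ^ n) x) = (z ^ n) ((z ^ m) x) := fun m n x => by
    rw [← LinearEquiv.mul_apply, ← LinearEquiv.mul_apply, ← pow_add, ← pow_add, add_comm]
  have h1 : (z ^ k) w = (z ^ l) w := by
    have e1 : (z ^ k) v + (z ^ k)⁻¹ v = (z ^ l) v + (z ^ l)⁻¹ v := by rw [hc, hc, h]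
    have e2 := congrArg (z ^ k) e1
    rw [map_add, map_add, hinv] at e2
    rw [hw, map_sub, map_sub, hinv, ← hcomm k l v]
    rw [sub_eq_sub_iff_add_eq_add, ← e2]
  have h2 : (z ^ (k - l)) w = w := by
    apply (z ^ l).injective
    rw [← LinearEquiv.mul_apply, ← pow_add, show l + (k - l) = k by omega]
    exact h1
  have h3 : w = 0 := pow_fix_zero hz hz1 hpF hc1 (by omega) (by omega) h2
  have h4 : (z ^ (l + k)) v = v := by
    have h5 : (z ^ k) v = (z ^ l)⁻¹ v := sub_eq_zero.1 h3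
    rw [pow_add, LinearEquiv.mul_apply, h5, hinv]
  exact pow_fix_zero hz hz1 hpF hc1 (by omega) (by omega) h4

theorem c_inj [Nontrivial V] (hz : z ^ p = 1) (hz1 : z ≠ 1) (hpF : (p : F) ≠ 0) {c : ℕ → F}
    (hc : ∀ k v, (z ^ k) v + (z ^ k)⁻¹ v = c k • v) {k l : ℕ} (hk : 2 * k < p) (hl : 2 * l < p) (h : c k = c l) :
    k = l := by
  rcases lt_trichotomy k l with h1 | h1 | h1
  · exact (c_inj_aux hz hz1 hpF hc hl h1 h.symm).elim
  · exact h1
  · exact (c_inj_aux hz hz1 hpF hc hk h1 h).elim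

end abs

/-! ### the plane -/

section plane

variable {F : Type*} [Field F] (g : Matrix.SpecialLinearGroup (Fin 2) F)

/-- `det (v, g w)` -/
def bl : LinearMap.BilinForm F (Fin 2 → F) :=
  LinearMap.mk₂ F (fun v w => v 0 * (g.1 1 0 * w 0 + g.1 1 1 * w 1) - v 1 * (g.1 0 0 * w 0 + g.1 0 1 * w 1))
    (fun v v' w => by simp only [Pi.add_apply]; ring) (fun a v w => by simp only [Pi.smul_apply, smul_eq_mul]; ring)
    (fun v w w' => by simp only [Pi.add_apply]; ring) (fun a v w => by simp only [Pi.smul_apply, smul_eq_mul]; ring)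

theorem bl_apply (v w : Fin 2 → F) : bl g v w =
    v 0 * (g.1 1 0 * w 0 + g.1 1 1 * w 1) - v 1 * (g.1 0 0 * w 0 + g.1 0 1 * w 1) := rfl

theorem lin_apply (v : Fin 2 → F) (i : Fin 2) :
    Matrix.SpecialLinearGroup.toLin' g v i = g.1 i 0 * v 0 + g.1 i 1 * v 1 := by
  rw [Matrix.SpecialLinearGroup.toLin'_apply, Matrix.toLin'_apply, Matrix.mulVec, dotProduct, Fin.sum_univ_two]

theorem det_eq : g.1 0 0 * g.1 1 1 - g.1 0 1 * g.1 1 0 = 1 := by
  rw [← Matrix.det_fin_two]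
  exact g.2

theorem bl_inv (v w : Fin 2 → F) :
    bl g (Matrix.SpecialLinearGroup.toLin' g v) (Matrix.SpecialLinearGroup.toLin' g w) = bl g v w := by
  rw [bl_apply, bl_apply, lin_apply, lin_apply, lin_apply, lin_apply]
  have h := det_eq g
  linear_combination (v 0 * (g.1 1 0 * w 0 + g.1 1 1 * w 1) - v 1 * (g.1 0 0 * w 0 + g.1 0 1 * w 1)) * h

theorem add_inv (v : Fin 2 → F) :
    Matrix.SpecialLinearGroup.toLin' g v + (Matrix.SpecialLinearGroup.toLin' g)⁻¹ v = (g.1 0 0 + g.1 1 1) • v := by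
  rw [← map_inv]
  ext i
  rw [Pi.add_apply, Pi.smul_apply, lin_apply, lin_apply, Matrix.SpecialLinearGroup.SL2_inv_expl]
  fin_cases i <;> simp <;> ring

theorem nondeg_bl {p : ℕ} [Fact p.Prime] (hp2 : p ≠ 2) (hg : g ^ p = 1) (hg1 : g ≠ 1) (hpF : (p : F) ≠ 0) :
    Nondeg (bl g).toQuadraticMap := by
  have hp : p.Prime := Fact.out
  intro v hv
  have hz : (Matrix.SpecialLinearGroup.toLin' g) ^ p = 1 := by rw [← map_pow, hg, map_one]
  have hz1 : Matrix.SpecialLinearGroup.toLin' g ≠ 1 := by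
    intro h
    apply hg1
    apply Subtype.ext
    ext i j
    have h1 := congrFun (DFunLike.congr_fun h (Pi.single j 1)) i
    rw [lin_apply] at h1
    change _ = (Pi.single j 1 : Fin 2 → F) i at h1
    fin_cases i <;> fin_cases j <;> simpa [Pi.single_apply] using h1
  -- `polar (v, w) = det (v, (g - g⁻¹) w)`
  have hpol : ∀ w, polar (bl g).toQuadraticMap v w = bl g v w + bl g w v := by
    intro w
    simp only [polar, LinearMap.BilinMap.toQuadraticMap_apply, map_add, LinearMap.add_apply]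
    ring
  have h1 := hv (Pi.single 0 1)
  have h2 := hv (Pi.single 1 1)
  rw [hpol, bl_apply, bl_apply] at h1 h2
  simp only [Pi.single_apply, Fin.isValue, if_true, if_false, one_ne_zero, zero_ne_one, mul_one, mul_zero, add_zero,
    zero_add, one_mul, zero_mul, sub_zero, zero_sub] at h1 h2
  -- `g² v = v`
  refine pow_fix_zero hz hz1 hpF (add_inv g) (m := 2) (by norm_num) (by have := hp.two_le; omega) ?_
  have h3 := det_eq g
  rw [pow_two, LinearEquiv.mul_apply]
  ext i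
  fin_cases i
  · simp only [Fin.zero_eta, lin_apply]
    linear_combination v 0 * h3 - g.1 0 0 * h2 + g.1 0 1 * h1
  · simp only [Fin.mk_one, lin_apply]
    linear_combination v 1 * h3 - g.1 1 0 * h2 + g.1 1 1 * h1

theorem bl_inv_pow (k : ℕ) (v w : Fin 2 → F) :
    bl g (Matrix.SpecialLinearGroup.toLin' (g ^ k) v) (Matrix.SpecialLinearGroup.toLin' (g ^ k) w) = bl g v w := by
  induction k with
  | zero => rw [pow_zero, map_one]; rfl
  | succ k ih =>
    rw [pow_succ', map_mul, LinearEquiv.mul_apply, LinearEquiv.mul_apply, bl_inv, ih]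

end plane

/-! ### four planes -/

section four

variable {F : Type} [Field F] (g : Matrix.SpecialLinearGroup (Fin 2) F)

/-- the form on four planes -/
noncomputable def qW : QuadraticForm F (Fin 4 → (Fin 2 → F)) := QuadraticMap.pi fun _ => (bl g).toQuadraticMap

theorem qW_apply (w : Fin 4 → (Fin 2 → F)) : qW g w = ∑ i, (bl g).toQuadraticMap (w i) := QuadraticMap.pi_apply _ _

theorem nondeg_qW (h : Nondeg (bl g).toQuadraticMap) : Nondeg (qW g) := by
  intro v hv
  ext i : 1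
  apply h
  intro y
  have h1 := hv (Pi.single i y)
  have h2 : polar (qW g) v (Pi.single i y) =
      ∑ j, polar (bl g).toQuadraticMap (v j) ((Pi.single i y : Fin 4 → (Fin 2 → F)) j) := by
    simp only [polar, qW_apply, Pi.add_apply, Finset.sum_sub_distrib]
  rw [h2, Finset.sum_eq_single i] at h1
  · rwa [Pi.single_eq_same] at h1
  · intro j _ hj
    rw [Pi.single_eq_of_ne hj, polar_zero_right]
  · intro h; exact (h (Finset.mem_univ _)).elim

omit g in
theorem finrank_WW : finrank F (Fin 4 → (Fin 2 → F)) = 8 := by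
  rw [Module.finrank_pi_fintype]
  simp

theorem pl_qW [Fintype F] : Pl (qW g) := by
  obtain ⟨r, hch, n, hr, hc⟩ := FiniteField.card' F
  have : NeZero r := ⟨hr.ne_zero⟩
  obtain ⟨a, b, hab⟩ := CharP.sq_add_sq F r (-1)
  push_cast at hab
  let f : ((Fin 2 → F) × (Fin 2 → F)) →ₗ[F] (Fin 4 → (Fin 2 → F)) :=
    { toFun := fun u => ![u.1, u.2, (a : F) • u.1 - (b : F) • u.2, (b : F) • u.1 + (a : F) • u.2]
      map_add' := fun u v => by
        ext i j
        fin_cases i <;> simp <;> ring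
      map_smul' := fun c u => by
        ext i j
        fin_cases i <;> simp <;> ring }
  have hf0 : ∀ u, f u 0 = u.1 := fun u => rfl
  have hf1 : ∀ u, f u 1 = u.2 := fun u => rfl
  have hf2 : ∀ u, f u 2 = (a : F) • u.1 - (b : F) • u.2 := fun u => rfl
  have hf3 : ∀ u, f u 3 = (b : F) • u.1 + (a : F) • u.2 := fun u => rfl
  have hf : Function.Injective f := fun u v h => by
    refine Prod.ext ?_ ?_
    · rw [← hf0, ← hf0, h]
    · rw [← hf1, ← hf1, h]
  refine ⟨LinearMap.range f, ?_, ?_⟩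
  · rintro _ ⟨u, rfl⟩
    rw [qW_apply, Fin.sum_univ_four, hf0, hf1, hf2, hf3]
    simp only [LinearMap.BilinMap.toQuadraticMap_apply, map_sub, map_add, LinearMap.sub_apply, LinearMap.add_apply,
      map_smul, LinearMap.smul_apply, smul_eq_mul]
    linear_combination (bl g u.1 u.1 + bl g u.2 u.2) * hab
  · rw [LinearMap.finrank_range_of_inj hf, finrank_WW, Module.finrank_prod, Module.finrank_fin_fun]

/-- diagonal maps -/
noncomputable def dz (f : Fin 4 → ℕ) : (Fin 4 → (Fin 2 → F)) ≃ₗ[F] (Fin 4 → (Fin 2 → F)) :=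
  LinearEquiv.piCongrRight fun i => Matrix.SpecialLinearGroup.toLin' (g ^ f i)

theorem dz_apply (f : Fin 4 → ℕ) (w : Fin 4 → (Fin 2 → F)) (i : Fin 4) :
    dz g f w i = Matrix.SpecialLinearGroup.toLin' (g ^ f i) (w i) := rfl

theorem dz_inv_apply (f : Fin 4 → ℕ) (w : Fin 4 → (Fin 2 → F)) (i : Fin 4) :
    (dz g f)⁻¹ w i = (Matrix.SpecialLinearGroup.toLin' (g ^ f i))⁻¹ (w i) := rfl

theorem dz_pow_apply (f : Fin 4 → ℕ) (n : ℕ) (w : Fin 4 → (Fin 2 → F)) (i : Fin 4) :
    (dz g f ^ n) w i = Matrix.SpecialLinearGroup.toLin' ((g ^ f i) ^ n) (w i) := by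
  induction n with
  | zero => rw [pow_zero, pow_zero, map_one]; rfl
  | succ n ih => rw [pow_succ', pow_succ', LinearEquiv.mul_apply, dz_apply, ih, map_mul, LinearEquiv.mul_apply]

theorem dz_pow {p : ℕ} (hg : g ^ p = 1) (f : Fin 4 → ℕ) : dz g f ^ p = 1 := by
  ext1 w
  ext1 i
  rw [dz_pow_apply, ← pow_mul, mul_comm, pow_mul, hg, one_pow, map_one]
  rfl

theorem qW_dz (f : Fin 4 → ℕ) (w : Fin 4 → (Fin 2 → F)) : qW g (dz g f w) = qW g w := by
  rw [qW_apply, qW_apply]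
  refine Finset.sum_congr rfl fun i _ => ?_
  rw [dz_apply, LinearMap.BilinMap.toQuadraticMap_apply, LinearMap.BilinMap.toQuadraticMap_apply, bl_inv_pow]

/-- the trace -/
def tr (k : ℕ) : F := (g ^ k).1 0 0 + (g ^ k).1 1 1

theorem add_inv_pow (k : ℕ) (v : Fin 2 → F) : Matrix.SpecialLinearGroup.toLin' (g ^ k) v +
    (Matrix.SpecialLinearGroup.toLin' (g ^ k))⁻¹ v = tr g k • v := add_inv (g ^ k) v

/-- eigenvalues of `x + x⁻¹` -/
def Ev {V : Type*} [AddCommGroup V] [Module F V] (x : V ≃ₗ[F] V) (c : F) : Prop :=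
  ∃ v : V, v ≠ 0 ∧ x v + x⁻¹ v = c • v

theorem Ev.conj {V : Type*} [AddCommGroup V] [Module F V] {x y h : V ≃ₗ[F] V} {c : F} (he : Ev x c)
    (hh : h * x * h⁻¹ = y) : Ev y c := by
  obtain ⟨v, h0, h1⟩ := he
  refine ⟨h v, fun h2 => h0 (h.injective (by rw [h2, map_zero])), ?_⟩
  have e : h⁻¹ (h v) = v := h.symm_apply_apply v
  have h3 : y (h v) = h (x v) := by
    rw [← hh, LinearEquiv.mul_apply, LinearEquiv.mul_apply, e]
  have h4 : y⁻¹ (h v) = h (x⁻¹ v) := by
    have : y⁻¹ = h * x⁻¹ * h⁻¹ := by rw [← hh]; group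
    rw [this, LinearEquiv.mul_apply, LinearEquiv.mul_apply, e]
  rw [h3, h4, ← map_add, h1, map_smul]

variable {V : Type*} [AddCommGroup V] [Module F V] (ψ : (Fin 4 → (Fin 2 → F)) ≃ₗ[F] V)

theorem ev_dz (f : Fin 4 → ℕ) (c : F) : Ev (cj ψ (dz g f)) c ↔ ∃ i, c = tr g (f i) := by
  constructor
  · rintro ⟨v, h0, h1⟩
    obtain ⟨w, rfl⟩ := ψ.surjective v
    rw [← map_inv, cj_apply, cj_apply, ← map_add, ← map_smul] at h1
    have h2 := ψ.injective h1
    obtain ⟨i, hi⟩ : ∃ i, w i ≠ 0 := by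
      by_contra hno
      push Not at hno
      apply h0
      rw [show w = 0 from funext hno, map_zero]
    refine ⟨i, ?_⟩
    have h3 := congrFun h2 i
    rw [Pi.add_apply, Pi.smul_apply, dz_apply, dz_inv_apply, add_inv_pow] at h3
    exact (smul_left_injective F hi h3).symm
  · rintro ⟨i, rfl⟩
    have h0 : (Pi.single 0 1 : Fin 2 → F) ≠ 0 := fun h => (one_ne_zero : (1 : F) ≠ 0) (by simpa using congrFun h 0)
    refine ⟨ψ (Pi.single i (Pi.single 0 1)), fun h => h0 ?_, ?_⟩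
    · rw [LinearEquiv.map_eq_zero_iff] at h
      simpa using congrFun h i
    · rw [← map_inv, cj_apply, cj_apply, ← map_add, ← map_smul]
      congr 1
      ext1 j
      rw [Pi.add_apply, Pi.smul_apply, dz_apply, dz_inv_apply, add_inv_pow]
      by_cases hj : j = i
      · rw [hj]
      · rw [Pi.single_eq_of_ne hj, smul_zero, smul_zero]

end four

/-! ### counting -/

theorem exists_range {n : ℕ} {s : Finset (Fin n)} (h0 : s.Nonempty) (h4 : s.card ≤ 4) :
    ∃ f : Fin 4 → Fin n, ∀ x, x ∈ s ↔ ∃ i, f i = x := by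
  have h1 : Fintype.card s ≤ Fintype.card (Fin 4) := by
    rw [Fintype.card_coe, Fintype.card_fin]; exact h4
  obtain ⟨e⟩ := Function.Embedding.nonempty_of_card_le h1
  have : Nonempty s := h0.to_subtype
  refine ⟨fun i => (Function.invFun e i).1, fun x => ⟨fun hx => ⟨e ⟨x, hx⟩, ?_⟩, ?_⟩⟩
  · change ((Function.invFun e (e ⟨x, hx⟩) : s) : Fin n) = x
    rw [Function.leftInverse_invFun e.injective]
  · rintro ⟨i, rfl⟩
    exact (Function.invFun e i).2

theorem choose_bound (n : ℕ) (hn : 6 ≤ n) :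
    10 * n ≤ n.choose 1 + n.choose 2 + n.choose 3 + n.choose 4 + 9 := by
  induction n, hn using Nat.le_induction with
  | base => decide
  | succ n hn ih =>
    have e2 : (n + 1).choose 2 = n.choose 1 + n.choose 2 := Nat.choose_succ_succ' n 1
    have e3 : (n + 1).choose 3 = n.choose 2 + n.choose 3 := Nat.choose_succ_succ' n 2
    have e4 : (n + 1).choose 4 = n.choose 3 + n.choose 4 := Nat.choose_succ_succ' n 3
    have h2 : 15 ≤ n.choose 2 := by
      have := Nat.choose_le_choose 2 hn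
      exact le_trans (by decide) this
    rw [e2, e3, e4, Nat.choose_one_right, Nat.choose_one_right]
    rw [Nat.choose_one_right] at ih
    omega

/-- subsets with at most four elements -/
def TT (n : ℕ) : Finset (Finset (Fin n)) :=
  (Finset.range 4).biUnion fun k => Finset.powersetCard (k + 1) Finset.univ

theorem mem_TT {n : ℕ} {s : Finset (Fin n)} (h : s ∈ TT n) : s.Nonempty ∧ s.card ≤ 4 := by
  obtain ⟨k, hk, h1⟩ := Finset.mem_biUnion.1 h
  rw [Finset.mem_powersetCard] at h1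
  rw [Finset.mem_range] at hk
  constructor
  · rw [← Finset.card_pos]; omega
  · omega

theorem card_TT (n : ℕ) : (TT n).card = n.choose 1 + n.choose 2 + n.choose 3 + n.choose 4 := by
  rw [TT, Finset.card_biUnion]
  · simp only [Finset.card_powersetCard, Finset.card_univ, Fintype.card_fin, Finset.sum_range_succ,
      Finset.sum_range_zero, zero_add]
  · intro i _ j _ hij
    exact Finset.pairwise_disjoint_powersetCard Finset.univ (by simpa using hij)

/-- **the bound for `p ∣ q² - 1`** -/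
theorem two_final {F : Type} [Field F] [Fintype F] {p : ℕ} [Fact p.Prime] (h11 : 11 ≤ p)
    (hp : p ∣ Fintype.card F ^ 2 - 1) (hpF : (p : F) ≠ 0) {M : Ideal AlgInt} (hM : IsPModular p M) :
    5 * (p - 1) + 1 ≤ kB M (P (LieClassical.QuadForms.plusForm 4 F)) := by
  have hpp : p.Prime := Fact.out
  have hp2 : p ≠ 2 := by omega
  have hodd : Odd p := hpp.odd_of_ne_two hp2
  -- the element of order `p`
  obtain ⟨g, hg⟩ := exists_prime_orderOf_dvd_card' (G := Matrix.SpecialLinearGroup (Fin 2) F) p (by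
    rw [Cfsg.Agent.ClassicalGeometry.PSL2Basic.card_SL2]; exact Dvd.dvd.mul_left hp _)
  have hgp : g ^ p = 1 := by rw [← hg, pow_orderOf_eq_one]
  have hg1 : g ≠ 1 := by
    rintro rfl
    rw [orderOf_one] at hg
    exact hpp.one_lt.ne hg
  have hz : (Matrix.SpecialLinearGroup.toLin' g) ^ p = 1 := by rw [← map_pow, hgp, map_one]
  have hz1 : Matrix.SpecialLinearGroup.toLin' g ≠ 1 := by
    intro h
    apply hg1
    apply Subtype.ext
    ext i j
    have h1 := congrFun (DFunLike.congr_fun h (Pi.single j 1)) i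
    rw [lin_apply] at h1
    change _ = (Pi.single j 1 : Fin 2 → F) i at h1
    fin_cases i <;> fin_cases j <;> simpa [Pi.single_apply] using h1
  -- the model
  obtain ⟨ψ, hψ⟩ := exists_psi (qW g) (nondeg_qW g (nondeg_bl g hp2 hgp hg1 hpF)) finrank_WW (pl_qW g)
  rw [Cfsg.Agent.AutOrth.Main.plusForm_eq] at hψ
  have hG : Good (LieClassical.QuadForms.plusForm 4 F) := Cfsg.Agent.AutOrth.Main.good_plus (by norm_num)
  have hfinV : Finite ((Fin 4 ⊕ Fin 4 → F) ≃ₗ[F] (Fin 4 ⊕ Fin 4 → F)) :=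
    Finite.of_injective (fun g : (Fin 4 ⊕ Fin 4 → F) ≃ₗ[F] (Fin 4 ⊕ Fin 4 → F) =>
      (g : (Fin 4 ⊕ Fin 4 → F) → (Fin 4 ⊕ Fin 4 → F))) DFunLike.coe_injective
  have hE : ∀ f : Fin 4 → ℕ, cj ψ (dz g f) ∈ E (LieClassical.QuadForms.plusForm 4 F) := by
    intro f
    refine mem_E_of_odd hG (fun v => ?_) hodd (by rw [← map_pow, dz_pow g hgp, map_one])
    obtain ⟨w, rfl⟩ := ψ.surjective v
    rw [cj_apply, hψ, hψ, qW_dz]
  -- the family
  obtain ⟨h, hh⟩ := hodd
  have hch : ∀ s : ↥(TT (h + 1)), ∃ f : Fin 4 → Fin (h + 1), ∀ x, x ∈ s.1 ↔ ∃ i, f i = x := fun s =>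
    exists_range (mem_TT s.2).1 (mem_TT s.2).2
  choose f hf using hch
  have hcinj : ∀ a b : Fin (h + 1), tr g (a : ℕ) = tr g (b : ℕ) → a = b := by
    intro a b hab
    apply Fin.ext
    have hnt : Nontrivial (Fin 2 → F) := inferInstance
    refine c_inj (z := Matrix.SpecialLinearGroup.toLin' g) hz hz1 hpF (c := tr g) (fun k v => ?_) ?_ ?_ hab
    · rw [← map_pow]
      exact add_inv_pow g k v
    · have := a.2; omega
    · have := b.2; omega
  have hfam := family_le (G := ↥(E (LieClassical.QuadForms.plusForm 4 F))) hM (ι := ↥(TT (h + 1)))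
    (fun s => ⟨cj ψ (dz g fun i => (f s i : ℕ)), hE _⟩) (fun s => Subtype.ext (by
      change cj ψ (dz g fun i => (f s i : ℕ)) ^ p = 1
      rw [← map_pow, dz_pow g hgp, map_one])) (fun s t hst => ?_) (fun _ => 1) (fun s => one_le hM _)
  · rw [kB_P hM hG hp2]
    refine le_trans ?_ hfam
    rw [Finset.sum_const, Finset.card_univ, Fintype.card_coe, smul_eq_mul, mul_one, card_TT]
    have := choose_bound (h + 1) (by omega)
    omega
  · obtain ⟨c, hc⟩ := isConj_iff.1 hst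
    have hc' : (c : (Fin 4 ⊕ Fin 4 → F) ≃ₗ[F] (Fin 4 ⊕ Fin 4 → F)) * cj ψ (dz g fun i => (f s i : ℕ)) *
        (c : (Fin 4 ⊕ Fin 4 → F) ≃ₗ[F] (Fin 4 ⊕ Fin 4 → F))⁻¹ = cj ψ (dz g fun i => (f t i : ℕ)) :=
      congrArg Subtype.val hc
    have hc'' : (c : (Fin 4 ⊕ Fin 4 → F) ≃ₗ[F] (Fin 4 ⊕ Fin 4 → F))⁻¹ * cj ψ (dz g fun i => (f t i : ℕ)) *
        ((c : (Fin 4 ⊕ Fin 4 → F) ≃ₗ[F] (Fin 4 ⊕ Fin 4 → F))⁻¹)⁻¹ = cj ψ (dz g fun i => (f s i : ℕ)) := by
      rw [← hc']; group
    apply Subtype.ext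
    ext x
    rw [hf s, hf t]
    constructor
    · rintro ⟨i, rfl⟩
      have h1 : Ev (cj ψ (dz g fun i => (f s i : ℕ))) (tr g (f s i : ℕ)) := (ev_dz g ψ _ _).2 ⟨i, rfl⟩
      obtain ⟨j, hj⟩ := (ev_dz g ψ _ _).1 (h1.conj hc')
      exact ⟨j, (hcinj _ _ hj).symm⟩
    · rintro ⟨i, rfl⟩
      have h1 : Ev (cj ψ (dz g fun i => (f t i : ℕ))) (tr g (f t i : ℕ)) := (ev_dz g ψ _ _).2 ⟨i, rfl⟩
      obtain ⟨j, hj⟩ := (ev_dz g ψ _ _).1 (h1.conj hc'')
      exact ⟨j, (hcinj _ _ hj).symm⟩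

end Cfsg.Agent.H587.KB8
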