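import Cfsg.Agent.H587.KB8.FourBd
import Cfsg.Agent.H587.KB8.Model

/-!
# `2 (p - 1) + 1 ≤ k(B₀(PΩ₈⁺(q)))` for `p ∣ q² + 1` (helper587, S4822 KB8)
-/

set_option autoImplicit false
set_option linter.unusedSectionVars false

open QuadraticMap Module Cfsg Cfsg.Agent.LieClassical.OrthCore Cfsg.Agent.LieClassical.OrthTrans
open Cfsg.Agent.LieClassical.OrthFinite Cfsg.Agent.ClassicalGeometry Cfsg.Agent.H508.KB
open Cfsg.Agent.ClassicalGeometry.OrthAut1

namespace Cfsg.Agent.H587.KB8

theorem nondegenerate_of_nondeg {F V : Type*} [Field F] [AddCommGroup V] [Module F V] {Q : QuadraticForm F V}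
    (h : Nondeg Q) : (polarBilin Q).Nondegenerate := by
  refine ⟨fun x hx => h x hx, fun x hx => h x fun y => ?_⟩
  rw [polar_comm]
  exact hx y

/-- **representatives of the classes of elements of order `p`** -/
theorem exists_family {F K : Type*} [Field F] [Field K] [Algebra F K] [Finite K] [FiniteDimensional F K] {d : ℕ}
    (hK : finrank F K ≤ d) {p : ℕ} [Fact p.Prime] (z : Kˣ) (hz : z ^ p = 1) (hz1 : z ≠ 1) :
    ∃ (H : ℕ) (a : Fin H → Kˣ), (∀ i, a i ^ p = 1) ∧ (∀ i, a i ≠ 1) ∧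
      (∀ i j, IsConjRoot F (a i : K) (a j : K) → i = j) ∧ p - 1 ≤ d * H := by
  classical
  have hp : p.Prime := Fact.out
  have ho : orderOf z = p := orderOf_eq_prime hz hz1
  set S : Finset Kˣ := (Finset.range (p - 1)).image fun k => z ^ (k + 1) with hS
  have hSc : S.card = p - 1 := by
    rw [hS, Finset.card_image_of_injOn, Finset.card_range]
    intro i hi j hj hij
    rw [Finset.coe_range, Set.mem_Iio] at hi hj
    have h1 : i + 1 = j + 1 := pow_injOn_Iio_orderOf (x := z) (by rw [Set.mem_Iio, ho]; omega)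
      (by rw [Set.mem_Iio, ho]; omega) hij
    omega
  have hSm : ∀ x ∈ S, x ^ p = 1 ∧ x ≠ 1 := by
    intro x hx
    obtain ⟨k, hk, rfl⟩ := Finset.mem_image.1 hx
    rw [Finset.mem_range] at hk
    refine ⟨by rw [← pow_mul, mul_comm, pow_mul, hz, one_pow], fun h => ?_⟩
    have h1 := orderOf_dvd_of_pow_eq_one h
    rw [ho] at h1
    have := Nat.le_of_dvd (by omega) h1
    omega
  set m : Kˣ → Polynomial F := fun x => minpoly F (x : K) with hm
  have hle : S.card ≤ d * (S.image m).card := by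
    refine Finset.card_le_mul_card_image S d fun P hP => ?_
    obtain ⟨y, hy, rfl⟩ := Finset.mem_image.1 hP
    have h0 : (m y).map (algebraMap F K) ≠ 0 :=
      (Polynomial.map_ne_zero_iff (algebraMap F K).injective).2 (minpoly.ne_zero (Algebra.IsIntegral.isIntegral _))
    have h1 : (S.filter fun x => m x = m y).card ≤ ((m y).map (algebraMap F K)).roots.toFinset.card := by
      refine Finset.card_le_card_of_injOn (fun x => (x : K)) (fun x hx => ?_) (fun x _ x' _ h => Units.ext h)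
      rw [Finset.mem_coe, Finset.mem_filter] at hx
      rw [Finset.mem_coe, Multiset.mem_toFinset, Polynomial.mem_roots h0, Polynomial.IsRoot,
        Polynomial.eval_map_algebraMap, ← hx.2]
      exact minpoly.aeval F (x : K)
    refine h1.trans ((Multiset.toFinset_card_le _).trans ((Polynomial.card_roots' _).trans ?_))
    rw [Polynomial.natDegree_map]
    exact (minpoly.natDegree_le (y : K)).trans hK
  have hch : ∀ P : S.image m, ∃ x ∈ S, m x = P.1 := fun P => Finset.mem_image.1 P.2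
  choose b hb hbm using hch
  refine ⟨(S.image m).card, fun i => b ((S.image m).equivFin.symm i), fun i => (hSm _ (hb _)).1,
    fun i => (hSm _ (hb _)).2, fun i j hij => ?_, by rw [← hSc]; exact hle⟩
  have h1 : m (b ((S.image m).equivFin.symm i)) = m (b ((S.image m).equivFin.symm j)) := hij
  rw [hbm, hbm] at h1
  exact (S.image m).equivFin.symm.injective (Subtype.ext h1)

open Cfsg.Agent.H200.LinFix in
theorem ordd_four {p q : ℕ} [Fact p.Prime] (hp2 : p ≠ 2) (h : p ∣ q ^ 2 + 1) :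
    Ordd p q 4 ∧ orderOf (q : ZMod p) = 4 := by
  have hp : p.Prime := Fact.out
  have h1 : (q : ZMod p) ^ 2 = -1 := by
    have h2 : ((q ^ 2 + 1 : ℕ) : ZMod p) = 0 := (ZMod.natCast_eq_zero_iff _ _).2 h
    push_cast at h2
    exact eq_neg_of_add_eq_zero_left h2
  have hne : (-1 : ZMod p) ≠ 1 := by
    have : Fact (2 < p) := ⟨by have := hp.two_le; omega⟩
    exact ZMod.neg_one_ne_one
  have h3 : orderOf (q : ZMod p) = 2 ^ (1 + 1) := by
    apply orderOf_eq_prime_pow
    · rw [pow_one, h1]; exact hne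
    · rw [show 2 ^ (1 + 1) = 2 * 2 from rfl, pow_mul, h1]; ring
  refine ⟨fun m hm => ?_, h3⟩
  rcases Nat.eq_zero_or_pos (q ^ m) with h0 | h0
  · exfalso
    have hq : q = 0 := by
      by_contra hq
      exact (Nat.pow_pos (Nat.pos_of_ne_zero hq)).ne' h0
    rw [hq] at h
    norm_num at h
    exact hp.one_lt.ne' h
  · rw [← h3 |>.trans (by norm_num : 2 ^ (1 + 1) = 4)]
    apply orderOf_dvd_of_pow_eq_one
    have h4 : ((q ^ m - 1 : ℕ) : ZMod p) = 0 := (ZMod.natCast_eq_zero_iff _ _).2 hm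
    rw [Nat.cast_sub h0, Nat.cast_pow, Nat.cast_one, sub_eq_zero] at h4
    exact h4

/-- **the bound for `p ∣ q² + 1`** -/
theorem four_final {F : Type} [Field F] [Fintype F] {p : ℕ} [Fact p.Prime] (h11 : 11 ≤ p)
    (hp : p ∣ Fintype.card F ^ 2 + 1) {M : Ideal AlgInt} (hM : IsPModular p M) :
    2 * (p - 1) + 1 ≤ kB M (P (LieClassical.QuadForms.plusForm 4 F)) := by
  have hpp : p.Prime := Fact.out
  have hp2 : p ≠ 2 := by omega
  obtain ⟨r, hch, n, hr, hc⟩ := FiniteField.card' F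
  have hfr : Fact r.Prime := ⟨hr⟩
  have hK : finrank F (FiniteField.Extension F r 4) = 4 := FiniteField.finrank_extension F r 4
  have hfd : FiniteDimensional F (FiniteField.Extension F r 4) := Module.Finite.of_finite
  obtain ⟨Q₁, ψ, hform, hiso⟩ := exists_model hK
  rw [Cfsg.Agent.AutOrth.Main.plusForm_eq] at hiso
  have hG : Good (LieClassical.QuadForms.plusForm 4 F) := Cfsg.Agent.AutOrth.Main.good_plus (by norm_num)
  have h : Mdl (fr F (FiniteField.Extension F r 4)) (LieClassical.QuadForms.plusForm 4 F) Q₁ ψ :=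
    ⟨hG, hK, quart' hK, hform, hiso⟩
  have hnm : ∀ z : (FiniteField.Extension F r 4)ˣ, z ^ p = 1 →
      nm (fr F (FiniteField.Extension F r 4)) (z : FiniteField.Extension F r 4) = 1 := by
    intro z hz
    obtain ⟨k, hk⟩ := hp
    rw [nm_eq, hk, ← Units.val_pow_eq_pow_val, pow_mul, hz, one_pow, Units.val_one]
  obtain ⟨z, hz, hz1⟩ := exists_zeta hK hp
  have hz0 : z ≠ 0 := by
    rintro rfl
    rw [zero_pow hpp.ne_zero] at hz
    exact zero_ne_one hz
  have hzu : (Units.mk0 z hz0) ^ p = 1 := Units.ext (by rw [Units.val_pow_eq_pow_val]; exact hz)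
  have hzu1 : Units.mk0 z hz0 ≠ 1 := fun h1 => hz1 (congrArg Units.val h1)
  obtain ⟨H, a, ha, ha1, hcl, hH⟩ := exists_family (F := F) hK.le _ hzu hzu1
  obtain ⟨hord, ho4⟩ := ordd_four hp2 hp
  have hQn := nondegenerate_of_nondeg hG.nondeg
  have hι : Fintype.card (Fin 4 ⊕ Fin 4) = 8 := rfl
  have hfinV : Finite ((Fin 4 ⊕ Fin 4 → F) ≃ₗ[F] (Fin 4 ⊕ Fin 4 → F)) :=
    Finite.of_injective (fun g : (Fin 4 ⊕ Fin 4 → F) ≃ₗ[F] (Fin 4 ⊕ Fin 4 → F) =>
      (g : (Fin 4 ⊕ Fin 4 → F) → (Fin 4 ⊕ Fin 4 → F))) DFunLike.coe_injective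
  have hb := h.four_bound hM hp2 (by rw [Nat.card_eq_fintype_card]; exact hord) hQn hι hnm
    (h.sw_mem_E hQn hι (exists_half hK)) a ha ha1 hcl _ hzu hzu1
  rw [kB_P hM hG hp2]
  refine le_trans ?_ hb
  -- `p ≥ 13`
  have h4 : 4 ∣ p - 1 := by
    rw [← ho4]
    refine ZMod.orderOf_dvd_card_sub_one ?_
    intro h0
    rw [h0, orderOf_zero] at ho4
    exact absurd ho4 (by norm_num)
  have h13 : 12 ≤ p - 1 := by omega
  have hH3 : 3 ≤ H := by omega
  nlinarith

end Cfsg.Agent.H587.KB8
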