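import Cfsg.Agent.H587.KB8.Cp
import Cfsg.Agent.H261.KB.Ker
import Cfsg.Agent.H96.KB.Hull
import Cfsg.Prelude.Def_KGroupFacts

/-!
# The hull and the outer automorphism group (helper587, S4822 KB8)

`fixOut P` : the classes of the automorphisms of `X` which fix a Sylow subgroup `P` pointwise; it is normal in `Out X`.
`index_le` : `|A : hull| ≤ d ker` as soon as `|Out X / fixOut P| ≤ d k(Out X / fixOut P)`.
-/

set_option autoImplicit false
set_option linter.unusedSectionVars false

open Cfsg Subgroup Cfsg.Agent.H508.KB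

namespace Cfsg.Agent.H587.KB8

open Cfsg.Agent.H587.KB8.Cp

universe u v

section

variable {p : ℕ} {X : Type v} [Group X]

/-- the automorphisms which fix `P` pointwise -/
def fixAut (P : Sylow p X) : Subgroup (MulAut X) where
  carrier := {α | ∀ x ∈ (P : Subgroup X), α x = x}
  one_mem' := fun _ _ => rfl
  mul_mem' := fun {α β} ha hb x hx => by rw [MulAut.mul_apply, hb x hx, ha x hx]
  inv_mem' := fun {α} ha x hx => by
    have h := ha x hx
    calc α⁻¹ x = α⁻¹ (α x) := by rw [h]
      _ = x := MulAut.inv_apply_self _ _ _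

theorem mem_fixAut {P : Sylow p X} {α : MulAut X} : α ∈ fixAut P ↔ ∀ x ∈ (P : Subgroup X), α x = x := Iff.rfl

/-- the classes of the automorphisms which fix `P` pointwise -/
def fixOut (P : Sylow p X) : Subgroup (Cfsg.Out X) := (fixAut P).map (QuotientGroup.mk' (Cfsg.Inn X))

variable [Finite X] [Fact p.Prime]

instance fixOut_normal (P : Sylow p X) : (fixOut P).Normal := by
  constructor
  rintro _ ⟨γ, hγ, rfl⟩ g
  obtain ⟨α, rfl⟩ := QuotientGroup.mk'_surjective (Cfsg.Inn X) g
  -- `α P = s P s⁻¹`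
  obtain ⟨s, hs⟩ := MulAction.exists_smul_eq X P (α • P)
  refine ⟨(MulAut.conj s)⁻¹ * α * γ * α⁻¹ * MulAut.conj s, ?_, ?_⟩
  · intro x hx
    -- `s x s⁻¹ = α y`
    have h1 : MulAut.conj s x ∈ ((α • P : Sylow p X) : Subgroup X) := by
      rw [← hs]
      exact ⟨x, hx, rfl⟩
    obtain ⟨y, hy, hyx⟩ := h1
    have h2 : α y = MulAut.conj s x := hyx
    have h3 : α⁻¹ (MulAut.conj s x) = y := by rw [← h2]; exact MulAut.inv_apply_self _ _ _
    show (MulAut.conj s)⁻¹ (α (γ (α⁻¹ (MulAut.conj s x)))) = x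
    rw [h3, hγ y hy, h2]
    exact MulAut.inv_apply_self _ _ _
  · have h1 : QuotientGroup.mk' (Cfsg.Inn X) (MulAut.conj s) = 1 := (QuotientGroup.eq_one_iff _).2 ⟨s, rfl⟩
    rw [map_mul, map_mul, map_mul, map_mul, map_inv, h1, inv_one, one_mul, mul_one, map_inv]

theorem mem_fixOut {P : Sylow p X} {α : MulAut X} :
    QuotientGroup.mk' (Cfsg.Inn X) α ∈ fixOut P ↔ ∃ s : X, ∃ γ ∈ fixAut P, α = MulAut.conj s * γ := by
  constructor
  · rintro ⟨γ, hγ, h⟩
    have h1 : α⁻¹ * γ ∈ Cfsg.Inn X := QuotientGroup.eq.1 h.symm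
    obtain ⟨s, hs⟩ := h1
    have h2 : α * MulAut.conj s = γ := by rw [hs, mul_inv_cancel_left]
    refine ⟨α s⁻¹, γ, hγ, ?_⟩
    have h3 : α * MulAut.conj s = MulAut.conj (α s) * α := by
      ext x
      simp only [MulAut.mul_apply, MulAut.conj_apply, map_mul, map_inv]
    rw [map_inv, map_inv, ← h2, h3, inv_mul_cancel_left]
  · rintro ⟨s, γ, hγ, rfl⟩
    have h1 : QuotientGroup.mk' (Cfsg.Inn X) (MulAut.conj s) = 1 := (QuotientGroup.eq_one_iff _).2 ⟨s, rfl⟩
    rw [map_mul, h1, one_mul]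
    exact ⟨γ, hγ, rfl⟩

end

section

variable {p : ℕ} [Fact p.Prime] {M : Ideal AlgInt} {X : Type v} [Group X] [Finite X] {A : Type u} [Group A] [Finite A]
  (T : Subgroup A) [T.Normal] (e : X ≃* ↥T)

/-- the action on `X` -/
def act : A →* MulAut X :=
  (MulAut.congr e.symm).toMonoidHom.comp (MulAut.conjNormal (H := T))

theorem act_apply (a : A) (x : X) : (e (act T e a x) : A) = a * e x * a⁻¹ := by
  change (e (e.symm ((MulAut.conjNormal a : MulAut T) (e.symm.symm x))) : A) = _
  rw [MulEquiv.apply_symm_apply]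
  exact MulAut.conjNormal_apply _ _

theorem act_coe (x : X) : act T e (e x) = MulAut.conj x := by
  ext y
  apply e.injective
  apply Subtype.ext
  rw [act_apply, MulAut.conj_apply, map_mul, map_mul, map_inv]
  rfl

include e in
/-- **the index of the hull** -/
theorem index_le (hM : IsPModular p M) (hcop : ¬ p ∣ T.index) (P : Sylow p X) {d : ℕ}
    (h : Rat d (Cfsg.Out X ⧸ fixOut P)) : (hull p T).index ≤ d * ker M T := by
  -- the Sylow subgroup of `T`
  obtain ⟨P', hP'⟩ : ∃ P' : Sylow p T, ∀ x : X, x ∈ (P : Subgroup X) ↔ e x ∈ (P' : Subgroup T) := by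
    refine ⟨P.mapSurjective (f := e.toMonoidHom) e.surjective, fun x => ⟨fun hx => ⟨x, hx, rfl⟩, ?_⟩⟩
    rintro ⟨y, hy, hyx⟩
    rwa [← e.injective (show e y = e x from hyx)]
  obtain ⟨h1, h2⟩ := Cfsg.Agent.H96.KB.Hull.hull_eq T hcop P'
  have hfinX : Finite (MulAut X) := inferInstance
  have hfinO : Finite (Cfsg.Out X) := Quotient.finite _
  -- the homomorphism
  set φ : A →* (Cfsg.Out X ⧸ fixOut P) :=
    ((QuotientGroup.mk' (fixOut P)).comp (QuotientGroup.mk' (Cfsg.Inn X))).comp (act T e) with hφ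
  have hker : φ.ker = hull p T := by
    ext a
    have h3 : a ∈ φ.ker ↔ QuotientGroup.mk' (Cfsg.Inn X) (act T e a) ∈ fixOut P := by
      rw [MonoidHom.mem_ker]
      exact QuotientGroup.eq_one_iff _
    rw [h3, mem_fixOut, h1]
    constructor
    · rintro ⟨s, γ, hγ, h4⟩
      have h5 : act T e ((e s : A)⁻¹ * a) = γ := by
        rw [map_mul, map_inv, act_coe, h4, inv_mul_cancel_left]
      have h6 : a = (e s : A) * ((e s : A)⁻¹ * a) := by rw [mul_inv_cancel_left]
      rw [h6]
      refine Subgroup.mul_mem_sup (e s).2 ?_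
      rw [Cfsg.Agent.H96.KB.Hull.mem_cent]
      intro y hy
      obtain ⟨x, rfl⟩ := e.surjective y
      have h7 := act_apply T e ((e s : A)⁻¹ * a) x
      rw [h5, hγ x ((hP' x).2 hy)] at h7
      exact eq_mul_inv_iff_mul_eq.1 h7
    · intro ha
      have h4 : T ⊔ centralizer (((P' : Subgroup ↥T).map T.subtype : Subgroup A) : Set A) ≤ φ.ker := by
        refine sup_le (fun t ht => ?_) (fun c hc => ?_)
        · rw [MonoidHom.mem_ker]
          obtain ⟨x, hx⟩ := e.surjective ⟨t, ht⟩
          have h5 : act T e t = MulAut.conj x := by rw [← act_coe T e x, hx]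
          refine (QuotientGroup.eq_one_iff _).2 ?_
          change QuotientGroup.mk' (Cfsg.Inn X) (act T e t) ∈ fixOut P
          rw [h5]
          exact mem_fixOut.2 ⟨x, 1, (fixAut P).one_mem, by rw [mul_one]⟩
        · rw [MonoidHom.mem_ker]
          refine (QuotientGroup.eq_one_iff _).2 ?_
          change QuotientGroup.mk' (Cfsg.Inn X) (act T e c) ∈ fixOut P
          refine mem_fixOut.2 ⟨1, act T e c, fun x hx => ?_, by rw [map_one, one_mul]⟩
          apply e.injective
          apply Subtype.ext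
          rw [act_apply]
          have h5 := Cfsg.Agent.H96.KB.Hull.mem_cent.1 hc (e x) ((hP' x).1 hx)
          rw [← h5, mul_inv_cancel_right]
      rw [← mem_fixOut, ← h3]
      exact h4 ha
  have h5 : Rat d (A ⧸ hull p T) :=
    (h.inj (QuotientGroup.kerLift φ) (QuotientGroup.kerLift_injective φ)).congr
      (QuotientGroup.quotientMulEquivOfEq hker)
  rw [Cfsg.Agent.H261.KB.Ker.ker_eq T hM hcop]
  exact h5

end

end Cfsg.Agent.H587.KB8
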