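import Cfsg.Agent.H587.KB8.FourEnd
import Cfsg.Agent.H587.KB8.Hull
import Cfsg.Agent.H308.LemB
import Cfsg.Agent.H989.OutOrth.Four

/-!
# A similitude which centralizes a Sylow subgroup, `p ∣ q² + 1`, `q` odd (helper587, S4822 KB8)
-/

set_option autoImplicit false
set_option linter.unusedSectionVars false

open QuadraticMap Module Cfsg Cfsg.Agent.LieClassical.OrthCore Cfsg.Agent.LieClassical.OrthTrans
open Cfsg.Agent.LieClassical.OrthFinite Cfsg.Agent.ClassicalGeometry Cfsg.Agent.H508.KB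
open Cfsg.Agent.ClassicalGeometry.OrthAut1 Cfsg.Agent.ClassicalGeometry.OrthSemi
open Cfsg.Agent.H200.LinFix

namespace Cfsg.Agent.H587.KB8

section

variable {F K : Type*} [Field F] [Field K] [Algebra F K] [Finite K]

/-- a linear map which commutes with an element of order `p` is linear over `K` -/
theorem comm_of_comm {p : ℕ} [Fact p.Prime] (hd : Ordd p (Nat.card F) 4) (hK : finrank F K = 4) {z : Kˣ}
    (hz : z ^ p = 1) (hz1 : z ≠ 1) (A : K →ₗ[F] K) (hA : ∀ a, A ((z : K) * a) = (z : K) * A a) (k a : K) :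
    A (k * a) = k * A a := by
  have hfd : FiniteDimensional F K := Module.Finite.of_finite
  let W : Submodule F K :=
    { carrier := {k | ∀ a, A (k * a) = k * A a}
      add_mem' := fun {x y} hx hy a => by rw [add_mul, map_add, hx, hy, add_mul]
      zero_mem' := fun a => by rw [zero_mul, map_zero, zero_mul]
      smul_mem' := fun c x hx a => by rw [smul_mul_assoc, map_smul, hx, smul_mul_assoc] }
  have hmW : ∀ x, x ∈ W ↔ ∀ a, A (x * a) = x * A a := fun x => Iff.rfl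
  have h1 : (1 : K) ∈ W := fun a => by rw [one_mul, one_mul]
  have hzp : (z : K) ^ p = 1 := by rw [← Units.val_pow_eq_pow_val, hz, Units.val_one]
  have h4 : 4 ∣ finrank F W := by
    refine dvd_finrank (p := p) hd (g := (LinearMap.mulLeft F (z : K) : Module.End F K)) (W := W)
      (fun w hw a => ?_) (fun w _ => ?_) (fun w _ hw => ?_)
    · change A ((z : K) * w * a) = (z : K) * w * A a
      rw [mul_assoc, hA, (hmW w).1 hw, mul_assoc]
    · have h2 : ∀ n : ℕ, ((LinearMap.mulLeft F (z : K) : Module.End F K) ^ n) w = (z : K) ^ n * w := by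
        intro n
        induction n with
        | zero => simp
        | succ n ih => rw [pow_succ', Module.End.mul_apply, ih, pow_succ', mul_assoc]; rfl
      rw [h2, hzp, one_mul]
    · have h2 : (z : K) * w = w := hw
      by_contra h0
      exact hz1 (Units.ext (mul_right_cancel₀ h0 (by rw [h2, Units.val_one, one_mul])))
  have h5 : 0 < finrank F W := by
    rw [Nat.pos_iff_ne_zero]
    intro h0
    rw [Submodule.finrank_eq_zero] at h0
    rw [h0, Submodule.mem_bot] at h1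
    exact one_ne_zero h1
  have h6 : finrank F W ≤ 4 := by rw [← hK]; exact Submodule.finrank_le W
  have h7 : W = ⊤ := Submodule.eq_top_of_finrank_eq (by
    rw [hK]
    have := Nat.le_of_dvd h5 h4
    omega)
  have h8 : k ∈ W := by rw [h7]; exact Submodule.mem_top
  exact h8 a

variable {ι : Type} [Fintype ι] [DecidableEq ι] {Q : QuadraticForm F (ι → F)} {ψ : (K × K) ≃ₗ[F] (ι → F)}

theorem comm_dg {p : ℕ} [Fact p.Prime] (hd : Ordd p (Nat.card F) 4) (hK : finrank F K = 4) {z : Kˣ}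
    (hz : z ^ p = 1) (hz1 : z ≠ 1) {y : (ι → F) ≃ₗ[F] (ι → F)}
    (h1 : y * cj ψ (dg (z, 1)) = cj ψ (dg (z, 1)) * y) (h2 : y * cj ψ (dg (1, z)) = cj ψ (dg (1, z)) * y)
    (b : Kˣ × Kˣ) : y * cj ψ (dg b) = cj ψ (dg b) * y := by
  -- pull back
  set Y : (K × K) →ₗ[F] (K × K) := ψ.symm.toLinearMap ∘ₗ y.toLinearMap ∘ₗ ψ.toLinearMap with hY
  have hYa : ∀ w, ψ (Y w) = y (ψ w) := fun w => ψ.apply_symm_apply _
  have hYc : ∀ c : Kˣ × Kˣ, (y * cj ψ (dg c) = cj ψ (dg c) * y) ↔ ∀ w, Y (dg (F := F) c w) = dg (F := F) c (Y w) := by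
    intro c
    constructor
    · intro hc w
      apply ψ.injective
      rw [hYa, ← cj_apply ψ (dg c) w, ← cj_apply ψ (dg c) (Y w), hYa]
      exact DFunLike.congr_fun hc (ψ w)
    · intro hc
      ext1 v
      obtain ⟨w, rfl⟩ := ψ.surjective v
      change y (cj ψ (dg c) (ψ w)) = cj ψ (dg c) (y (ψ w))
      rw [cj_apply, ← hYa, ← hYa, cj_apply, hc]
  have h1' := (hYc _).1 h1
  have h2' := (hYc _).1 h2
  rw [hYc]
  have hz' : (z : K) ≠ 1 := fun h => hz1 (Units.ext h)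
  -- the components
  have e1 : ∀ a : K, (Y (a, 0)).2 = 0 := by
    intro a
    have h3 := h1' ((a / ((z : K) - 1)), 0)
    rw [dg_apply, dg_apply, mul_zero] at h3
    have h4 : (Y ((z : K) * (a / ((z : K) - 1)), 0)).2 = (Y (a / ((z : K) - 1), 0)).2 := by
      have := congrArg Prod.snd h3
      rw [this]
      exact one_mul _
    have h5 : ((a, (0 : K)) : K × K) = ((z : K) * (a / ((z : K) - 1)), 0) - (a / ((z : K) - 1), 0) := by
      refine Prod.ext ?_ (sub_zero 0).symm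
      change a = (z : K) * (a / ((z : K) - 1)) - a / ((z : K) - 1)
      have h6 : (z : K) - 1 ≠ 0 := sub_ne_zero.2 hz'
      field_simp
    rw [h5, map_sub, Prod.snd_sub, h4, sub_self]
  have e2 : ∀ a : K, (Y (0, a)).1 = 0 := by
    intro a
    have h3 := h2' (0, (a / ((z : K) - 1)))
    rw [dg_apply, dg_apply, mul_zero] at h3
    have h4 : (Y (0, (z : K) * (a / ((z : K) - 1)))).1 = (Y (0, a / ((z : K) - 1))).1 := by
      have := congrArg Prod.fst h3
      rw [this]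
      exact one_mul _
    have h5 : (((0 : K), a) : K × K) = (0, (z : K) * (a / ((z : K) - 1))) - (0, a / ((z : K) - 1)) := by
      refine Prod.ext (sub_zero 0).symm ?_
      change a = (z : K) * (a / ((z : K) - 1)) - a / ((z : K) - 1)
      have h6 : (z : K) - 1 ≠ 0 := sub_ne_zero.2 hz'
      field_simp
    rw [h5, map_sub, Prod.fst_sub, h4, sub_self]
  have e3 : ∀ k a : K, (Y (k * a, 0)).1 = k * (Y (a, 0)).1 := by
    intro k a
    refine comm_of_comm hd hK hz hz1 (LinearMap.fst F K K ∘ₗ Y ∘ₗ LinearMap.inl F K K) (fun c => ?_) k a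
    have h3 := congrArg Prod.fst (h1' (c, 0))
    rw [dg_apply, dg_apply, mul_zero] at h3
    exact h3
  have e4 : ∀ k a : K, (Y (0, k * a)).2 = k * (Y (0, a)).2 := by
    intro k a
    refine comm_of_comm hd hK hz hz1 (LinearMap.snd F K K ∘ₗ Y ∘ₗ LinearMap.inr F K K) (fun c => ?_) k a
    have h3 := congrArg Prod.snd (h2' (0, c))
    rw [dg_apply, dg_apply, mul_zero] at h3
    exact h3
  intro w
  have e5 : ∀ u : K × K, u = (u.1, 0) + (0, u.2) := fun u => by simp
  have e6 : ∀ u : K × K, Y u = ((Y (u.1, 0)).1, (Y (0, u.2)).2) := by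
    intro u
    conv_lhs => rw [e5 u, map_add]
    refine Prod.ext ?_ ?_
    · rw [Prod.fst_add, e2, add_zero]
    · rw [Prod.snd_add, e1, zero_add]
  rw [e6 (dg b w), dg_apply, dg_apply, e3, e4, e6 w]

end

/-- **a noncentral class of automorphisms which fixes a Sylow subgroup pointwise** -/
theorem exists_noncentral {F : Type} [Field F] [Fintype F] (h2 : (2 : F) ≠ 0) {p : ℕ} [Fact p.Prime] (h11 : 11 ≤ p)
    (hp : p ∣ Fintype.card F ^ 2 + 1) [Finite (P (LieClassical.QuadForms.plusForm 4 F))] :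
    ∃ S : Sylow p (P (LieClassical.QuadForms.plusForm 4 F)), ∃ a ∈ fixOut S, ∃ b, a * b ≠ b * a := by
  have hpp : p.Prime := Fact.out
  have hp2 : p ≠ 2 := by omega
  obtain ⟨r, hch, n, hr, hc⟩ := FiniteField.card' F
  have hfr : Fact r.Prime := ⟨hr⟩
  have hK : finrank F (FiniteField.Extension F r 4) = 4 := FiniteField.finrank_extension F r 4
  have hfd : FiniteDimensional F (FiniteField.Extension F r 4) := Module.Finite.of_finite
  obtain ⟨Q₁, ψ, hform, hiso⟩ := exists_model hK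
  rw [Cfsg.Agent.AutOrth.Main.plusForm_eq] at hiso
  set K := FiniteField.Extension F r 4
  set Q := LieClassical.QuadForms.plusForm 4 F
  have hG : Good Q := Cfsg.Agent.AutOrth.Main.good_plus (by norm_num)
  have h : Mdl (fr F K) Q Q₁ ψ := ⟨hG, hK, quart' hK, hform, hiso⟩
  obtain ⟨hord, ho4⟩ := ordd_four hp2 hp
  have hord' : Ordd p (Nat.card F) 4 := by rw [Nat.card_eq_fintype_card]; exact hord
  have hnm : ∀ z : Kˣ, z ^ p = 1 → nm (fr F K) (z : K) = 1 := by
    intro z hz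
    obtain ⟨k, hk⟩ := hp
    rw [nm_eq, hk, ← Units.val_pow_eq_pow_val, pow_mul, hz, one_pow, Units.val_one]
  obtain ⟨z', hz', hz1'⟩ := exists_zeta hK hp
  have hz0 : z' ≠ 0 := by
    rintro rfl
    rw [zero_pow hpp.ne_zero] at hz'
    exact zero_ne_one hz'
  obtain ⟨z, hz, hz1⟩ : ∃ z : Kˣ, z ^ p = 1 ∧ z ≠ 1 :=
    ⟨Units.mk0 z' hz0, Units.ext (by rw [Units.val_pow_eq_pow_val]; exact hz'), fun h1 => hz1' (congrArg Units.val h1)⟩
  have hpo : Odd p := hpp.odd_of_ne_two hp2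
  have hfinV : Finite ((Fin 4 ⊕ Fin 4 → F) ≃ₗ[F] (Fin 4 ⊕ Fin 4 → F)) :=
    Finite.of_injective (fun g : (Fin 4 ⊕ Fin 4 → F) ≃ₗ[F] (Fin 4 ⊕ Fin 4 → F) =>
      (g : (Fin 4 ⊕ Fin 4 → F) → (Fin 4 ⊕ Fin 4 → F))) DFunLike.coe_injective
  -- the elementary abelian subgroup
  have hmem : ∀ b : Kˣ × Kˣ, b ^ p = 1 → cj ψ (dg b) ∈ E Q := fun b hb =>
    h.dg_mem_E (hnm _ (congrArg Prod.fst hb)) (hnm _ (congrArg Prod.snd hb)) hpo hb
  have hb1 : ((z, 1) : Kˣ × Kˣ) ^ p = 1 := Prod.ext hz (one_pow p)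
  have hb2 : ((1, z) : Kˣ × Kˣ) ^ p = 1 := Prod.ext (one_pow p) hz
  let Z : Subgroup (Kˣ × Kˣ) := (powMonoidHom p : Kˣ × Kˣ →* Kˣ × Kˣ).ker
  let f : Z →* ↥(E Q) := ((cj ψ).comp ((dg (F := F) (K := K)).comp Z.subtype)).codRestrict (E Q)
    fun b => hmem b.1 b.2
  have hfp : IsPGroup p f.range := by
    rintro ⟨_, b, rfl⟩
    refine ⟨1, ?_⟩
    rw [pow_one]
    apply Subtype.ext
    change f b ^ p = 1
    rw [← map_pow, show b ^ p = 1 from Subtype.ext b.2, map_one]
  obtain ⟨S, hS⟩ := hfp.exists_le_sylow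
  have hx1 : (⟨cj ψ (dg (z, 1)), hmem _ hb1⟩ : ↥(E Q)) ∈ (S : Subgroup ↥(E Q)) := hS ⟨⟨(z, 1), hb1⟩, rfl⟩
  have hx2 : (⟨cj ψ (dg (1, z)), hmem _ hb2⟩ : ↥(E Q)) ∈ (S : Subgroup ↥(E Q)) := hS ⟨⟨(1, z), hb2⟩, rfl⟩
  -- it is abelian
  have hpF : (p : F) ≠ 0 := by
    intro h0
    rw [CharP.cast_eq_zero_iff F r] at h0
    have h1 : r = p := (Nat.prime_dvd_prime_iff_eq hr hpp).1 h0
    have h3 : p ∣ Fintype.card F ^ 2 := by rw [hc, h1, ← pow_mul]; exact dvd_pow_self _ (by simp)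
    have h4 := (Nat.dvd_add_right h3).1 hp
    exact hpp.one_lt.ne' (Nat.dvd_one.1 h4)
  have hab : ∀ x ∈ (S : Subgroup ↥(E Q)), ∀ y ∈ (S : Subgroup ↥(E Q)), x * y = y * x := by
    intro x hx y hy
    let ρ : ↥(S : Subgroup ↥(E Q)) →* Module.End F (Fin 4 ⊕ Fin 4 → F) :=
      (LinearEquiv.automorphismGroup.toLinearMapMonoidHom (R := F) (M := Fin 4 ⊕ Fin 4 → F)).comp
        ((E Q).subtype.comp (S : Subgroup ↥(E Q)).subtype)
    have hρ : Function.Injective ρ := by
      intro a b hab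
      apply Subtype.ext
      apply Subtype.ext
      ext1 v
      exact LinearMap.congr_fun hab v
    have h3 := Cfsg.Agent.H308.LemB.pgroup_comm_of_finrank_lt ρ hρ hpp S.2 hpF (by
      rw [Module.finrank_fintype_fun_eq_card]
      simp
      omega) ⟨x, hx⟩ ⟨y, hy⟩
    exact congrArg Subtype.val h3
  -- the similitude
  obtain ⟨c, hcs⟩ := Cfsg.Agent.H989.OutOrth.Plus.exists_nonsquare h2
  obtain ⟨l, hl⟩ := exists_nm hK (c : F) c.ne_zero
  have hl0 : l ≠ 0 := by
    rintro rfl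
    have h3 : algebraMap F K c = 0 := by rw [← hl]; exact zero_mul _
    rw [map_eq_zero] at h3
    exact c.ne_zero h3
  set lu : Kˣ := Units.mk0 l hl0
  have hq : ∀ x : K, Q₁ (l * x) = c * Q₁ x := by
    intro x
    apply (algebraMap F K).injective
    have e : algebraMap F K (c * Q₁ x) = algebraMap F K c * algebraMap F K (Q₁ x) := map_mul _ _ _
    rw [e]
    refine (hform (l * x)).trans ?_
    rw [hform, nm_mul, hl, map_mul (fr F (FiniteField.Extension F r 4)), AlgEquiv.commutes]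
    ring
  set T : (Fin 4 ⊕ Fin 4 → F) ≃ₗ[F] (Fin 4 ⊕ Fin 4 → F) := cj ψ (dg (lu, lu)) with hT
  have hTQ : ∀ v, Q (T v) = c * Q v := by
    intro v
    obtain ⟨w, rfl⟩ := ψ.surjective v
    rw [hT, cj_apply, hiso, hiso, dg_apply]
    change Q₁ (l * w.1) + Q₁ (l * w.2) = _
    rw [hq, hq]
    ring
  have hSS : IsSS Q (RingEquiv.refl F) (c : F) T.toEquiv :=
    ⟨c.ne_zero, fun u v => map_add T u v, fun a v => map_smul T a v, fun v => hTQ v⟩
  let MM : Gam Q := ⟨T.toEquiv, _, _, hSS⟩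
  -- it fixes the Sylow subgroup pointwise
  set Sb : Sylow p (P Q) := S.mapSurjective (f := QuotientGroup.mk' (Subgroup.center ↥(E Q)))
    (QuotientGroup.mk'_surjective _) with hSb
  have hfix : ∀ x ∈ (Sb : Subgroup (P Q)), Psi Q MM x = x := by
    rintro _ ⟨y, hy, rfl⟩
    change Psi Q MM (QuotientGroup.mk y) = QuotientGroup.mk y
    rw [Psi_mk]
    congr 1
    apply Subtype.ext
    rw [coe_conjE]
    have h3 : y.1 * T = T * y.1 :=
      comm_dg (ψ := ψ) hord' hK hz hz1 (congrArg Subtype.val (hab y hy _ hx1)) (congrArg Subtype.val (hab y hy _ hx2)) _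
    ext1 v
    rw [conjLin_apply]
    have h4 : y.1 (T (T.symm v)) = T (y.1 (T.symm v)) := DFunLike.congr_fun h3 (T.symm v)
    rw [LinearEquiv.apply_symm_apply] at h4
    exact h4.symm
  -- conclusion
  have hf1 : (1 : ℕ) ≤ n := n.2
  have hr2 : r ≠ 2 := by
    rintro rfl
    exact h2 (by exact_mod_cast (CharP.cast_eq_zero F 2))
  have hcard := Cfsg.Agent.H989.OutOrth.Four.card_Psi (F := F) hf1 hc
  rw [if_neg hr2] at hcard
  have hD := Cfsg.Agent.H989.OutOrth.Forms.card_D_eq hf1 hc hG (Cfsg.Agent.H989.OutOrth.Four.sg_surj4 hG) hcard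
  have hnc := Cfsg.Agent.H989.OutOrth.Small.not_comm_of_eight hG hD (Cfsg.Agent.H989.OutOrth.Four.one_ne (F := F))
    (δ0 := MM) hSS (fun x _ => Cfsg.Agent.H989.OutOrth.Small.sq_cases hcs x)
  exact ⟨Sb, Cfsg.Agent.H989.OutOrth.Basic.out Q MM, ⟨Psi Q MM, hfix, rfl⟩, _, hnc⟩

end Cfsg.Agent.H587.KB8
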