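import Cfsg.Agent.H587.KB8.Cp
import Cfsg.Agent.H989.OutOrth.Four

/-!
# `Out(PΩ₈⁺(q))`: `|X| ≤ d k(X)` for the relevant quotients (helper587, S4822 KB8)
-/

set_option autoImplicit false
set_option linter.unusedSectionVars false

namespace Cfsg.Agent.H587.KB8.Cp

/-- the stabilizer of a point -/
abbrev st : Subgroup (Equiv.Perm (Fin 4)) := MulAction.stabilizer (Equiv.Perm (Fin 4)) (3 : Fin 4)

theorem mem_st {σ : Equiv.Perm (Fin 4)} : σ ∈ st ↔ σ 3 = 3 := MulAction.mem_stabilizer_iff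

theorem rat_st : Rat 2 st := by
  rw [rat_iff]
  have h1 : Nat.card st = 6 := by
    have h : Nat.card st = Nat.card {σ : Equiv.Perm (Fin 4) // σ 3 = 3} :=
      Nat.card_congr (Equiv.subtypeEquivRight fun σ => mem_st)
    rw [h, Nat.card_eq_fintype_card]
    decide +kernel
  have h2 : np st = 18 := by
    have h : np st = Nat.card {p : Equiv.Perm (Fin 4) × Equiv.Perm (Fin 4) //
        p.1 3 = 3 ∧ p.2 3 = 3 ∧ p.1 * p.2 = p.2 * p.1} := by
      refine Nat.card_congr ⟨fun p => ⟨(p.1.1.1, p.1.2.1), mem_st.1 p.1.1.2, mem_st.1 p.1.2.2,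
        congrArg Subtype.val p.2.eq⟩, fun p => ⟨(⟨p.1.1, mem_st.2 p.2.1⟩, ⟨p.1.2, mem_st.2 p.2.2.1⟩),
        Subtype.ext p.2.2.2⟩, fun _ => rfl, fun _ => rfl⟩
    rw [h, Nat.card_eq_fintype_card]
    decide +kernel
  rw [h1, h2]

/-- quotients of `S₄ × C` by noncentral normal subgroups -/
theorem rat_quot {C : Type*} [CommGroup C] [Finite C] (R : Subgroup (Equiv.Perm (Fin 4) × C)) [R.Normal]
    {r w : Equiv.Perm (Fin 4) × C} (hr : r ∈ R) (hrw : r * w ≠ w * r) :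
    Rat 2 ((Equiv.Perm (Fin 4) × C) ⧸ R) := by
  -- the commutator
  obtain ⟨a, ha1, haR⟩ : ∃ a : Equiv.Perm (Fin 4), a ≠ 1 ∧ (a, (1 : C)) ∈ R := by
    refine ⟨r.1 * w.1 * r.1⁻¹ * w.1⁻¹, fun h => hrw ?_, ?_⟩
    · have h1 : r.1 * w.1 = w.1 * r.1 := by
        rw [mul_inv_eq_one, mul_inv_eq_iff_eq_mul] at h
        exact h
      exact Prod.ext h1 (mul_comm _ _)
    · have h1 : r * (w * r⁻¹ * w⁻¹) ∈ R :=
        R.mul_mem hr (Subgroup.Normal.conj_mem inferInstance _ (R.inv_mem hr) w)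
      have h2 : r * (w * r⁻¹ * w⁻¹) = (r.1 * w.1 * r.1⁻¹ * w.1⁻¹, (1 : C)) := by
        refine Prod.ext ?_ ?_
        · change r.1 * (w.1 * r.1⁻¹ * w.1⁻¹) = _
          group
        · change r.2 * (w.2 * r.2⁻¹ * w.2⁻¹) = 1
          rw [mul_comm w.2, mul_assoc, mul_inv_cancel, mul_one, mul_inv_cancel]
      rwa [h2] at h1
  -- transitivity
  have htr : ∀ j : Fin 4, ∃ b : Equiv.Perm (Fin 4), (b, (1 : C)) ∈ R ∧ b j = 3 := by
    intro j
    by_cases hj : j = 3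
    · exact ⟨1, R.one_mem, by rw [hj]; rfl⟩
    obtain ⟨i, hi⟩ : ∃ i, a i ≠ i := by
      by_contra hno
      push Not at hno
      exact ha1 (Equiv.ext hno)
    -- a permutation with `i ↦ j`, `a i ↦ 3`
    obtain ⟨σ, h1, h2⟩ : ∃ σ : Equiv.Perm (Fin 4), σ i = j ∧ σ (a i) = 3 := by
      have key : ∀ i k j l : Fin 4, k ≠ i → j ≠ l → ∃ σ : Equiv.Perm (Fin 4), σ i = j ∧ σ k = l := by
        decide +kernel
      exact key i (a i) j 3 hi hj
    refine ⟨σ * a * σ⁻¹, ?_, ?_⟩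
    · have h3 := Subgroup.Normal.conj_mem (inferInstance : R.Normal) _ haR (σ, (1 : C))
      have h4 : (σ, (1 : C)) * (a, 1) * (σ, 1)⁻¹ = (σ * a * σ⁻¹, 1) := by
        refine Prod.ext rfl ?_
        change (1 : C) * 1 * 1⁻¹ = 1
        simp
      rwa [h4] at h3
    · rw [← h1, Equiv.Perm.mul_apply, Equiv.Perm.mul_apply, Equiv.Perm.inv_eq_iff_eq.2 rfl, h2]
  have hs : Rat 2 (st × C) := rat_st.prod mul_comm
  refine hs.surj ((QuotientGroup.mk' R).comp (MonoidHom.prodMap st.subtype (MonoidHom.id C))) ?_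
  intro x
  obtain ⟨⟨σ, c⟩, rfl⟩ := QuotientGroup.mk'_surjective R x
  obtain ⟨b, hb, hb3⟩ := htr (σ 3)
  refine ⟨(⟨b * σ, mem_st.2 (by rw [Equiv.Perm.mul_apply, hb3])⟩, c), ?_⟩
  change QuotientGroup.mk' R ((b * σ, c)) = QuotientGroup.mk' R (σ, c)
  have h1 : ((b * σ, c) : Equiv.Perm (Fin 4) × C) = (b, 1) * (σ, c) := by
    refine Prod.ext rfl ?_
    change c = 1 * c
    rw [one_mul]
  rw [h1, map_mul]
  have h2 : QuotientGroup.mk' R (b, (1 : C)) = 1 := (QuotientGroup.eq_one_iff _).2 hb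
  rw [h2, one_mul]

/-- transport of quotients -/
theorem rat_quot_congr {W W' : Type*} [Group W] [Group W'] [Finite W] [Finite W'] (e : W ≃* W') {d : ℕ}
    (R : Subgroup W) [R.Normal] (h : ∀ R' : Subgroup W', R' = R.map e.toMonoidHom → ∀ _ : R'.Normal, Rat d (W' ⧸ R')) :
    Rat d (W ⧸ R) := by
  have hn : (R.map e.toMonoidHom).Normal := Subgroup.Normal.map inferInstance _ e.surjective
  exact (h _ rfl hn).congr (QuotientGroup.congr R (R.map e.toMonoidHom) e rfl).symm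

open Cfsg Cfsg.Agent.ClassicalGeometry.OrthAut1 Cfsg.Agent.LieClassical.QuadForms

section

variable {F : Type} [Field F] [Fintype F]

/-- **`|Out / R| ≤ 5 k`** -/
theorem rat_out_five (R : Subgroup (Cfsg.Out (P (plusForm 4 F)))) [R.Normal] :
    Rat 5 (Cfsg.Out (P (plusForm 4 F)) ⧸ R) := by
  obtain ⟨r, -, n, hr, hc⟩ := FiniteField.card' F
  have hfr : Fact r.Prime := ⟨hr⟩
  have hf : NeZero (n : ℕ) := ⟨n.ne_zero⟩
  by_cases h2 : r = 2
  · obtain ⟨e⟩ := Cfsg.Agent.H989.OutOrth.Four.even_case (F := F) (f := n) n.2 hc h2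
    have hfin : Finite (Cfsg.Out (P (plusForm 4 F))) := Finite.of_equiv _ e.symm.toEquiv
    have h3 : Rat 2 (Cfsg.Out (P (plusForm 4 F))) :=
      (rat_perm_three.prod (H := Multiplicative (ZMod n)) mul_comm).congr e.symm
    have h4 := h3.surj (QuotientGroup.mk' R) (QuotientGroup.mk'_surjective R)
    exact h4.trans (Nat.mul_le_mul_right _ (by norm_num))
  · obtain ⟨e⟩ := Cfsg.Agent.H989.OutOrth.Four.odd_case (F := F) (f := n) n.2 hc h2
    have hfin : Finite (Cfsg.Out (P (plusForm 4 F))) := Finite.of_equiv _ e.symm.toEquiv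
    have h3 : Rat 5 (Cfsg.Out (P (plusForm 4 F))) :=
      (rat_perm_four.prod (H := Multiplicative (ZMod n)) mul_comm).congr e.symm
    exact h3.surj (QuotientGroup.mk' R) (QuotientGroup.mk'_surjective R)

/-- **`|Out / R| ≤ 2 k`** if `q` is even or `R` is not central -/
theorem rat_out_two (R : Subgroup (Cfsg.Out (P (plusForm 4 F)))) [R.Normal]
    (h : (2 : F) = 0 ∨ ∃ a ∈ R, ∃ b, a * b ≠ b * a) :
    Rat 2 (Cfsg.Out (P (plusForm 4 F)) ⧸ R) := by
  obtain ⟨r, hch, n, hr, hc⟩ := FiniteField.card' F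
  have hfr : Fact r.Prime := ⟨hr⟩
  have hf : NeZero (n : ℕ) := ⟨n.ne_zero⟩
  by_cases h2 : r = 2
  · obtain ⟨e⟩ := Cfsg.Agent.H989.OutOrth.Four.even_case (F := F) (f := n) n.2 hc h2
    have hfin : Finite (Cfsg.Out (P (plusForm 4 F))) := Finite.of_equiv _ e.symm.toEquiv
    have h3 : Rat 2 (Cfsg.Out (P (plusForm 4 F))) :=
      (rat_perm_three.prod (H := Multiplicative (ZMod n)) mul_comm).congr e.symm
    exact h3.surj (QuotientGroup.mk' R) (QuotientGroup.mk'_surjective R)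
  · obtain ⟨e⟩ := Cfsg.Agent.H989.OutOrth.Four.odd_case (F := F) (f := n) n.2 hc h2
    have hfin : Finite (Cfsg.Out (P (plusForm 4 F))) := Finite.of_equiv _ e.symm.toEquiv
    obtain ⟨a, ha, b, hab⟩ : ∃ a ∈ R, ∃ b, a * b ≠ b * a := by
      refine h.resolve_left fun h0 => h2 ?_
      have h3 : (r : ℕ) ∣ 2 := (CharP.cast_eq_zero_iff F r 2).1 (by exact_mod_cast h0)
      exact (Nat.prime_dvd_prime_iff_eq hr Nat.prime_two).1 h3
    refine rat_quot_congr e R fun R' hR' hn => ?_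
    refine rat_quot R' (r := e a) (w := e b) ?_ fun h3 => hab (e.injective ?_)
    · rw [hR']; exact ⟨a, ha, rfl⟩
    · rw [map_mul, map_mul, h3]

end

end Cfsg.Agent.H587.KB8.Cp
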