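import Cfsg.Agent.H587.KB8.Cyc
import Cfsg.Agent.H587.KB8.Two
import Cfsg.Agent.H587.KB8.FourEnd
import Cfsg.Agent.H587.KB8.FourOut
import Cfsg.Agent.H587.KB8.OutRat
import Cfsg.Agent.H587.KB8.Hull
import Cfsg.Agent.H191.KB.Final
import Cfsg.Agent.H508.KB.Asm
import Cfsg.Agent.H590.RankSum

/-!
# S4822 [KB8]: the row `PΩ₈⁺(q)` (helper587)
-/

set_option autoImplicit false
set_option linter.unusedSectionVars false

open Cfsg Subgroup Cfsg.Agent.H508.KB
open Cfsg.Agent.LieClassical.OrthTrans Cfsg.Agent.ClassicalGeometry.OrthAut1 Cfsg.Agent.H587.KB8.Cp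

namespace Cfsg.Agent.H587.KB8

universe u

/-- **S4822, KB8** -/
theorem row_omegaPlus_four {p : ℕ} [Fact p.Prime] {M : Ideal AlgInt} {S : Type u} [Group S] [Finite S]
    [IsSimpleGroup S] {r : ℕ} [Fact r.Prime] (hrp : r ≠ p) (h11 : 11 ≤ p) (hM : IsPModular p M) {F : Type} [Field F]
    [Fintype F] [CharP F r] (e : Nonempty (S ≃* POmega F (quadFormPlus 4 F))) (hP : NC p S) : Row p M S := by
  intro A _ _ T _ he₁ _ hcop
  obtain ⟨e₁⟩ := he₁
  rw [← LieClassical.QuadForms.coe_plusForm] at e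
  obtain ⟨e₀⟩ := e
  have hp : p.Prime := Fact.out
  have hr : r.Prime := Fact.out
  have hpF : (p : F) ≠ 0 := by
    intro h0
    rw [CharP.cast_eq_zero_iff F r] at h0
    exact hrp ((Nat.prime_dvd_prime_iff_eq hr hp).1 h0)
  have hG : Good (LieClassical.QuadForms.plusForm 4 F) := Cfsg.Agent.AutOrth.Main.good_plus (by norm_num)
  let e₂ : S ≃* P (LieClassical.QuadForms.plusForm 4 F) := e₀.trans (Cfsg.Agent.AutOrth.Main.pe hG)
  let e₃ : P (LieClassical.QuadForms.plusForm 4 F) ≃* ↥T := e₂.symm.trans e₁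
  have hfin : Finite (P (LieClassical.QuadForms.plusForm 4 F)) := Finite.of_equiv S e₂.toEquiv
  have hkB : kB M ↥T = kB M (P (LieClassical.QuadForms.plusForm 4 F)) :=
    Cfsg.Agent.H590.RankSum.card_congr e₃.symm
  have hdiv : p ∣ Fintype.card F ^ 4 - 1 := by
    by_contra hno
    obtain ⟨R, hR⟩ := cyclic_P h11 hpF hno
    apply hP (R.mapSurjective (f := e₂.symm.toMonoidHom) e₂.symm.surjective)
    have h2 : ((R.mapSurjective (f := e₂.symm.toMonoidHom) e₂.symm.surjective : Sylow p S) : Subgroup S) =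
        (R : Subgroup (P (LieClassical.QuadForms.plusForm 4 F))).map e₂.symm.toMonoidHom := rfl
    rw [h2]
    exact isCyclic_of_surjective _ (e₂.symm.toMonoidHom.subgroupMap_surjective
      (R : Subgroup (P (LieClassical.QuadForms.plusForm 4 F))))
  have hq : Fintype.card F ^ 4 - 1 = (Fintype.card F ^ 2 - 1) * (Fintype.card F ^ 2 + 1) := by
    obtain ⟨k, hk⟩ := Nat.exists_eq_add_of_le (Nat.one_le_pow 2 _ (Fintype.card_pos (α := F)))
    have h2 : Fintype.card F ^ 4 = (Fintype.card F ^ 2) ^ 2 := by ring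
    rw [h2, hk, show 1 + k - 1 = k by omega]
    have h3 : (1 + k) ^ 2 = k * (1 + k + 1) + 1 := by ring
    rw [h3, Nat.add_sub_cancel]
  rw [hq] at hdiv
  rcases hp.dvd_mul.1 hdiv with h1 | h1
  · obtain ⟨R⟩ : Nonempty (Sylow p (P (LieClassical.QuadForms.plusForm 4 F))) := inferInstance
    refine H191.KB.good_of_rat T hM hcop 5 (index_le T e₃ hM hcop R (rat_out_five _)) ?_
    rw [hkB]
    exact two_final h11 h1 hpF hM
  · have h4 := four_final (F := F) h11 h1 hM
    by_cases h2 : (2 : F) = 0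
    · obtain ⟨R⟩ : Nonempty (Sylow p (P (LieClassical.QuadForms.plusForm 4 F))) := inferInstance
      refine H191.KB.good_of_rat T hM hcop 2 (index_le T e₃ hM hcop R (rat_out_two _ (Or.inl h2))) ?_
      rw [hkB]
      exact h4
    · obtain ⟨R, hR⟩ := exists_noncentral h2 h11 h1
      refine H191.KB.good_of_rat T hM hcop 2 (index_le T e₃ hM hcop R (rat_out_two _ (Or.inr hR))) ?_
      rw [hkB]
      exact h4

end Cfsg.Agent.H587.KB8
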