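import Mathlib

/-!
# Commuting probability: quotients and subgroups (helper587, S4822 KB8)

`Rat d G` : `|G| ≤ d k(G)`. It passes to subgroups and quotients.
-/

set_option autoImplicit false
set_option linter.unusedSectionVars false

namespace Cfsg.Agent.H587.KB8.Cp

/-- `|G| ≤ d k(G)` -/
def Rat (d : ℕ) (G : Type*) [Group G] : Prop := Nat.card G ≤ d * Nat.card (ConjClasses G)

section

variable {G H : Type*} [Group G] [Group H] [Finite G] [Finite H]

/-- the number of commuting pairs -/
noncomputable def np (G : Type*) [Group G] : ℕ := Nat.card {p : G × G // Commute p.1 p.2}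

theorem np_eq : np G = Nat.card (ConjClasses G) * Nat.card G := card_comm_eq_card_conjClasses_mul_card G

theorem rat_iff {d : ℕ} : Rat d G ↔ Nat.card G * Nat.card G ≤ d * np G := by
  have h : 0 < Nat.card G := Nat.card_pos
  unfold Rat
  rw [np_eq, ← mul_assoc]
  exact (Nat.mul_le_mul_right_iff h).symm

theorem np_le_of_surj (f : G →* H) (hf : Function.Surjective f) :
    np G ≤ Nat.card f.ker * Nat.card f.ker * np H := by
  classical
  choose s hs using hf
  have hfin : Finite {p : H × H // Commute p.1 p.2} := inferInstance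
  have : np G ≤ Nat.card ((f.ker × f.ker) × {p : H × H // Commute p.1 p.2}) := by
    refine Nat.card_le_card_of_injective (fun p => ((⟨(s (f p.1.1))⁻¹ * p.1.1, by
      rw [MonoidHom.mem_ker, map_mul, map_inv, hs, inv_mul_cancel]⟩, ⟨(s (f p.1.2))⁻¹ * p.1.2, by
      rw [MonoidHom.mem_ker, map_mul, map_inv, hs, inv_mul_cancel]⟩), ⟨(f p.1.1, f p.1.2), p.2.map f⟩)) ?_
    intro p q h
    simp only [Prod.mk.injEq, Subtype.mk.injEq] at h
    obtain ⟨⟨h1, h2⟩, h3, h4⟩ := h
    rw [h3] at h1
    rw [h4] at h2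
    exact Subtype.ext (Prod.ext (mul_left_cancel h1) (mul_left_cancel h2))
  rwa [Nat.card_prod, Nat.card_prod] at this

theorem Rat.surj {d : ℕ} (h : Rat d G) (f : G →* H) (hf : Function.Surjective f) : Rat d H := by
  rw [rat_iff] at h ⊢
  have h1 := np_le_of_surj f hf
  have h2 : Nat.card G = Nat.card f.ker * Nat.card H := by
    rw [← Subgroup.card_mul_index f.ker, Subgroup.index_ker, MonoidHom.range_eq_top.2 hf, Subgroup.card_top]
  have h3 : 0 < Nat.card f.ker := Nat.card_pos
  have h4 : (Nat.card f.ker * Nat.card f.ker) * (Nat.card H * Nat.card H) ≤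
      (Nat.card f.ker * Nat.card f.ker) * (d * np H) := by
    calc (Nat.card f.ker * Nat.card f.ker) * (Nat.card H * Nat.card H) = Nat.card G * Nat.card G := by
          rw [h2]; ring
      _ ≤ d * np G := h
      _ ≤ d * (Nat.card f.ker * Nat.card f.ker * np H) := Nat.mul_le_mul_left _ h1
      _ = _ := by ring
  exact Nat.le_of_mul_le_mul_left h4 (Nat.mul_pos h3 h3)

theorem card_cent_le (K : Subgroup G) (x : G) :
    Nat.card {y : G // Commute x y} ≤ K.index * Nat.card {y : K // Commute x y} := by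
  classical
  set C : Subgroup G := Subgroup.centralizer {x} with hC
  have h1 : Nat.card {y : G // Commute x y} = Nat.card C := by
    refine Nat.card_congr (Equiv.subtypeEquivRight fun y => ?_)
    rw [hC, Subgroup.mem_centralizer_singleton_iff]
    exact ⟨fun h => h.symm.eq, fun h => (show Commute y x from h).symm⟩
  have h2 : Nat.card {y : K // Commute x y} = Nat.card (K.subgroupOf C) := by
    refine Nat.card_congr ⟨fun y => ⟨⟨y.1.1, ?_⟩, y.1.2⟩, fun y => ⟨⟨y.1.1, y.2⟩, ?_⟩, fun _ => rfl, fun _ => rfl⟩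
    · rw [hC, Subgroup.mem_centralizer_singleton_iff]
      exact y.2.symm.eq
    · have h3 : (y.1.1 : G) ∈ C := y.1.2
      exact (show Commute y.1.1 x from Subgroup.mem_centralizer_singleton_iff.1 h3).symm
  rw [h1, h2, ← Subgroup.card_mul_index (K.subgroupOf C), mul_comm]
  refine Nat.mul_le_mul_right _ ?_
  have h3 : K.relIndex ⊤ ≠ 0 := by rw [Subgroup.relIndex_top_right]; exact Subgroup.index_ne_zero_of_finite
  have h4 := Subgroup.relIndex_le_of_le_right (le_top : C ≤ ⊤) h3
  rwa [Subgroup.relIndex_top_right] at h4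

theorem np_sub_le (K : Subgroup G) : np G ≤ K.index * K.index * np K := by
  classical
  have hfinG : Fintype G := Fintype.ofFinite G
  have hfinK : Fintype K := Fintype.ofFinite K
  have h1 : np G = ∑ x : G, Nat.card {y : G // Commute x y} := by
    rw [np, ← Nat.card_sigma]
    exact Nat.card_congr ⟨fun p => ⟨p.1.1, p.1.2, p.2⟩, fun p => ⟨(p.1, p.2.1), p.2.2⟩, fun _ => rfl, fun _ => rfl⟩
  have h2 : np K = ∑ x : K, Nat.card {y : K // Commute (x : G) y} := by
    rw [np, ← Nat.card_sigma]
    refine Nat.card_congr ⟨fun p => ⟨p.1.1, p.1.2, ?_⟩, fun p => ⟨(p.1, p.2.1), ?_⟩, fun _ => rfl, fun _ => rfl⟩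
    · exact congrArg (Subtype.val) p.2.eq
    · exact Subtype.ext p.2.2.eq
  have h3 : ∑ x : G, Nat.card {y : K // Commute x y} = ∑ y : K, Nat.card {x : G // Commute (y : G) x} := by
    rw [← Nat.card_sigma, ← Nat.card_sigma]
    exact Nat.card_congr ⟨fun p => ⟨p.2.1, p.1, p.2.2.symm⟩, fun p => ⟨p.2.1, p.1, p.2.2.symm⟩, fun _ => rfl,
      fun _ => rfl⟩
  calc np G = ∑ x : G, Nat.card {y : G // Commute x y} := h1
    _ ≤ ∑ x : G, K.index * Nat.card {y : K // Commute x y} := Finset.sum_le_sum fun x _ => card_cent_le K x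
    _ = K.index * ∑ y : K, Nat.card {x : G // Commute (y : G) x} := by rw [← Finset.mul_sum, h3]
    _ ≤ K.index * ∑ y : K, K.index * Nat.card {x : K // Commute (y : G) x} :=
        Nat.mul_le_mul_left _ (Finset.sum_le_sum fun x _ => card_cent_le K (x : G))
    _ = K.index * K.index * np K := by rw [← Finset.mul_sum, h2]; ring

theorem Rat.sub {d : ℕ} (h : Rat d G) (K : Subgroup G) : Rat d K := by
  rw [rat_iff] at h ⊢
  have h1 := np_sub_le K
  have h2 := Subgroup.card_mul_index K
  have h3 : 0 < K.index := Nat.pos_of_ne_zero Subgroup.index_ne_zero_of_finite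
  have h4 : (K.index * K.index) * (Nat.card K * Nat.card K) ≤ (K.index * K.index) * (d * np K) := by
    calc (K.index * K.index) * (Nat.card K * Nat.card K) = Nat.card G * Nat.card G := by
          rw [← h2]; ring
      _ ≤ d * np G := h
      _ ≤ d * (K.index * K.index * np K) := Nat.mul_le_mul_left _ h1
      _ = _ := by ring
  exact Nat.le_of_mul_le_mul_left h4 (Nat.mul_pos h3 h3)

theorem Rat.inj {d : ℕ} (h : Rat d G) (f : H →* G) (hf : Function.Injective f) : Rat d H := by
  have h1 := h.sub f.range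
  exact h1.surj (MonoidHom.ofInjective hf).symm.toMonoidHom (MonoidHom.ofInjective hf).symm.surjective

theorem Rat.prod {d : ℕ} (h : Rat d G) (hc : ∀ a b : H, a * b = b * a) : Rat d (G × H) := by
  rw [rat_iff] at h ⊢
  have h1 : np (G × H) = np G * (Nat.card H * Nat.card H) := by
    rw [np, np, ← Nat.card_prod, ← Nat.card_prod]
    exact Nat.card_congr ⟨fun p => (⟨(p.1.1.1, p.1.2.1), congrArg Prod.fst p.2.eq⟩, (p.1.1.2, p.1.2.2)),
      fun p => ⟨((p.1.1.1, p.2.1), (p.1.1.2, p.2.2)), Prod.ext p.1.2.eq (hc _ _)⟩, fun _ => rfl, fun _ => rfl⟩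
  rw [h1, Nat.card_prod]
  calc Nat.card G * Nat.card H * (Nat.card G * Nat.card H) =
        Nat.card G * Nat.card G * (Nat.card H * Nat.card H) := by ring
    _ ≤ d * np G * (Nat.card H * Nat.card H) := Nat.mul_le_mul_right _ h
    _ = _ := by ring

theorem Rat.congr {d : ℕ} (h : Rat d G) (e : G ≃* H) : Rat d H := h.surj e.toMonoidHom e.surjective

end

theorem np_fintype {G : Type*} [Group G] [Fintype G] [DecidableEq G] :
    np G = (Finset.univ.filter fun p : G × G => p.1 * p.2 = p.2 * p.1).card := by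
  rw [np, ← Fintype.card_subtype, ← Nat.card_eq_fintype_card]
  exact Nat.card_congr (Equiv.subtypeEquivRight fun p => ⟨fun h => h.eq, fun h => h⟩)

theorem rat_perm_three : Rat 2 (Equiv.Perm (Fin 3)) := by
  rw [rat_iff]
  have h1 : Nat.card (Equiv.Perm (Fin 3)) = 6 := by
    rw [Nat.card_eq_fintype_card, Fintype.card_perm]; rfl
  have h2 : np (Equiv.Perm (Fin 3)) = 18 := by
    rw [np_fintype]
    decide +kernel
  rw [h1, h2]

theorem rat_perm_four : Rat 5 (Equiv.Perm (Fin 4)) := by
  rw [rat_iff]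
  have h1 : Nat.card (Equiv.Perm (Fin 4)) = 24 := by
    rw [Nat.card_eq_fintype_card, Fintype.card_perm]; rfl
  have h2 : np (Equiv.Perm (Fin 4)) = 120 := by
    rw [np_fintype]
    decide +kernel
  rw [h1, h2]
  norm_num

end Cfsg.Agent.H587.KB8.Cp
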