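import Cfsg.Agent.H200.LinFixE
import Cfsg.Agent.S0126
import Cfsg.Agent.AutOrth.Main

/-!
# Cyclic Sylow subgroups of `PΩ₈⁺(q)` (helper587, S4822 KB8)
-/

set_option autoImplicit false
set_option linter.unusedSectionVars false

open QuadraticMap Module Cfsg.Agent.LieClassical.OrthCore Cfsg.Agent.LieClassical.OrthTrans
open Cfsg.Agent.LieClassical.OrthFinite Cfsg.Agent.ClassicalGeometry
open Cfsg.Agent.H200.LinFix Cfsg.Agent.ClassicalGeometry.OrthAut1

namespace Cfsg.Agent.H587.KB8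

section split

variable {F V : Type*} [Field F] [AddCommGroup V] [Module F V] {b : LinearMap.BilinForm F V} [Finite V]
variable {p : ℕ} [hp : Fact p.Prime]

/-- an irreducible piece invariant under the centraliser -/
theorem exists_split [Finite F] (hp2 : p ≠ 2) (hpF : (p : F) ≠ 0) {y : Module.End F V} (hy : y ^ p = 1)
    (hyb : Isom b y) (hb : ∀ v, (∀ u, b u v = 0) → v = 0) {d : ℕ} (hd : Ordd p (Nat.card F) d)
    (hld : p ∣ Nat.card F ^ d - 1) (hdo : Odd d) (hfr : finrank F (R y) = 2 * d) :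
    ∃ E : Submodule F V, finrank F E = d ∧
      ∀ s : Module.End F V, s ^ p = 1 → Isom b s → s * y = y * s →
        (∀ w ∈ E, s w ∈ E) ∧ ((∀ w ∈ E, s w = w) → ∀ w ∈ R y, s w = w) := by
  have hfd : FiniteDimensional F V := inferInstance
  have hd0 : 0 < d := hdo.pos
  have hyW : ∀ w ∈ R y, y w ∈ R y := fun w hw => R_inv rfl hw
  have hW : R y ≠ ⊥ := by
    intro h
    rw [h, finrank_bot] at hfr
    omega
  have hq1 : 1 ≤ Nat.card F ^ d := Nat.one_le_pow _ _ Nat.card_pos
  -- a proper invariant subspace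
  obtain ⟨E, hEW, hyE, hE0, hEne⟩ : ∃ E : Submodule F V, E ≤ R y ∧ (∀ w ∈ E, y w ∈ E) ∧ E ≠ ⊥ ∧ E ≠ R y := by
    by_contra hcon
    push Not at hcon
    have hirr : Irr y (R y) := fun U hU hyU => by
      by_cases h : U = ⊥
      · exact Or.inl h
      · exact Or.inr (hcon U hU hyU h)
    obtain ⟨w, hw, hw0⟩ := Submodule.exists_mem_ne_zero_of_ne_bot hW
    obtain ⟨m, hm, hU⟩ := unitary_on (l := p - 1) hW hyW hirr b (fun u _ v _ => hyb u v)
      (fun v hv hv' => nondeg_R hyb hb hy hpF hv hv')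
      (by rw [Nat.sub_add_cancel hp.out.one_le, hy])
      ⟨w, hw, fun h1 => hw0 (eq_zero_of_mem hy hpF (fix_of_sq hp2 hy h1) hw)⟩
    have hmd : m = d := by omega
    subst hmd
    apply hw0
    refine eq_zero_of_mem hy hpF ?_ hw
    refine fix_of_coprime (hU y hyW (fun w _ => rfl) (fun u _ v _ => hyb u v) w hw)
      (by rw [hy]; rfl) ?_
    refine ((Nat.Prime.coprime_iff_not_dvd hp.out).2 fun h => ?_).symm
    apply hp2
    have h3 : p ∣ 2 := by
      have h4 : Nat.card F ^ m + 1 - (Nat.card F ^ m - 1) = 2 := by omega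
      rw [← h4]
      exact Nat.dvd_sub h hld
    exact (Nat.prime_dvd_prime_iff_eq hp.out Nat.prime_two).1 h3
  have hEd : finrank F E = d := by
    obtain ⟨c, hc⟩ := dvd_finrank_le hd hpF hy hEW hyE
    have h1 : finrank F E < finrank F (R y) := Submodule.finrank_lt_finrank_of_lt (lt_of_le_of_ne hEW hEne)
    have h2 : finrank F E ≠ 0 := fun h => hE0 (Submodule.finrank_eq_zero.1 h)
    have h3 : c < 2 := by
      by_contra h
      push Not at h
      nlinarith
    interval_cases c <;> omega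
  have hirr : Irr y E := irr_of_lt hd hpF hy hEW hyE (by omega)
  have hnotEven : ¬ Even (finrank F E) := by rw [hEd]; exact Nat.not_even_iff_odd.2 hdo
  -- totally isotropic
  have hti : ∀ v ∈ E, ∀ u ∈ E, b u v = 0 := by
    rcases rad_of_irr hy hyb hyE hirr with h | h
    · exact absurd (even_of_irr hp2 hpF hy hEW hyE hirr hE0 b (fun u _ v _ => hyb u v) h) hnotEven
    · exact h
  refine ⟨E, hEd, fun s hs hsb hsy => ?_⟩
  have hsW : ∀ w ∈ R y, s w ∈ R y := fun w hw => R_inv hsy hw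
  have hsy' : ∀ w, s (y w) = y (s w) := fun w => LinearMap.congr_fun hsy w
  have hsinj : Function.Injective s := by
    intro u v h
    have h1 : (s ^ (p - 1)) (s u) = (s ^ (p - 1)) (s v) := by rw [h]
    rw [← Module.End.mul_apply, ← Module.End.mul_apply, ← pow_succ, Nat.sub_add_cancel hp.out.one_le, hs] at h1
    exact h1
  -- `E` is `s`-invariant
  have hsE : ∀ w ∈ E, s w ∈ E := by
    have hE'y : ∀ w ∈ E.map s, y w ∈ E.map s := by
      rintro _ ⟨w, hw, rfl⟩
      exact ⟨y w, hyE w hw, hsy' w⟩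
    have hE'd : finrank F (E.map s) = d := by
      rw [← hEd]
      exact (Submodule.equivMapOfInjective s hsinj E).symm.finrank_eq
    have hE'W : E.map s ≤ R y := by
      rintro _ ⟨w, hw, rfl⟩
      exact hsW w (hEW hw)
    rcases hirr (E ⊓ E.map s) inf_le_left (fun u hu => ⟨hyE u hu.1, hE'y u hu.2⟩) with h | h
    · exfalso
      have hsup : E ⊔ E.map s = R y := by
        apply Submodule.eq_of_le_of_finrank_le (sup_le hEW hE'W)
        have h1 := Submodule.finrank_sup_add_finrank_inf_eq E (E.map s)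
        rw [h, finrank_bot, hE'd, hEd] at h1
        omega
      apply hnotEven
      refine even_of_irr hp2 hpF hy hEW hyE hirr hE0 (b.compRight s) (fun u _ v _ => ?_) ?_
      · rw [LinearMap.BilinForm.compRight_apply, LinearMap.BilinForm.compRight_apply, hsy', hyb]
      · intro v hv hv'
        apply hsinj
        rw [map_zero]
        refine nondeg_R hyb hb hy hpF (hsW v (hEW hv)) fun u hu => ?_
        rw [← hsup] at hu
        obtain ⟨u1, hu1, u2, ⟨u3, hu3, rfl⟩, rfl⟩ := Submodule.mem_sup.1 hu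
        rw [map_add, LinearMap.add_apply, hsb, hti v hv u3 hu3, add_zero]
        exact hv' u1 hu1
    · intro w hw
      have h1 : E = E.map s := Submodule.eq_of_le_of_finrank_eq (by
        intro x hx
        have h2 : x ∈ E ⊓ E.map s := by rw [h]; exact hx
        exact h2.2) (by rw [hE'd, hEd])
      rw [h1]
      exact ⟨w, hw, rfl⟩
  refine ⟨hsE, fun hfix => ?_⟩
  by_contra hcon
  push Not at hcon
  obtain ⟨w0, hw0, hne⟩ := hcon
  set E2 : Submodule F V := (R y).map (s - 1) with hE2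
  have hE2R : E2 ≤ R s := by
    rintro _ ⟨w, -, rfl⟩
    exact ⟨w, rfl⟩
  have hE2W : E2 ≤ R y := by
    rintro _ ⟨w, hw, rfl⟩
    exact Submodule.sub_mem _ (hsW w hw) hw
  have hE2y : ∀ w ∈ E2, y w ∈ E2 := by
    rintro _ ⟨w, hw, rfl⟩
    refine ⟨y w, hyW w hw, ?_⟩
    change s (y w) - y w = y (s w - w)
    rw [map_sub, hsy']
  have hinf : E ⊓ E2 = ⊥ := by
    rw [eq_bot_iff]
    rintro v ⟨hv, hv'⟩
    exact eq_zero_of_mem hs hpF (hfix v hv) (hE2R hv')
  have hE20 : finrank F E2 ≠ 0 := by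
    intro h0
    rw [Submodule.finrank_eq_zero] at h0
    apply hne
    have h1 : s w0 - w0 ∈ E2 := ⟨w0, hw0, rfl⟩
    rw [h0, Submodule.mem_bot, sub_eq_zero] at h1
    exact h1
  obtain ⟨c, hc⟩ := dvd_finrank_le hd hpF hy hE2W hE2y
  have hc0 : 0 < c := Nat.pos_of_ne_zero (by rintro rfl; omega)
  have hsup : E ⊔ E2 = R y := by
    apply Submodule.eq_of_le_of_finrank_le (sup_le hEW hE2W)
    have h1 := Submodule.finrank_sup_add_finrank_inf_eq E E2
    rw [hinf, finrank_bot, hEd] at h1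
    nlinarith
  apply hE0
  rw [eq_bot_iff]
  intro v hv
  refine nondeg_R hyb hb hy hpF (hEW hv) fun u hu => ?_
  rw [← hsup] at hu
  obtain ⟨u1, hu1, u2, ⟨u3, hu3, rfl⟩, rfl⟩ := Submodule.mem_sup.1 hu
  rw [map_add, LinearMap.add_apply, hti v hv u1 hu1, zero_add]
  change b (s u3 - u3) v = 0
  rw [map_sub, LinearMap.sub_apply, sub_eq_zero]
  nth_rewrite 1 [← hfix v hv]
  rw [hsb]

/-- **`p`-groups of isometries of degree less than `3 d`**, `d` odd -/
theorem isCyclic_odd [Finite F] (hp2 : p ≠ 2) (hpF : (p : F) ≠ 0) (hb : ∀ v, (∀ u, b u v = 0) → v = 0) {d : ℕ}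
    (hd : Ordd p (Nat.card F) d) (hld : p ∣ Nat.card F ^ d - 1) (hdo : Odd d) (hV : finrank F V < 3 * d)
    {Γ : Type*} [Group Γ] [Finite Γ] (hΓ : IsPGroup p Γ) (ρ : Γ →* Module.End F V) (hρ : Function.Injective ρ)
    (hiso : ∀ γ, Isom b (ρ γ)) : IsCyclic Γ := by
  have hfd : FiniteDimensional F V := inferInstance
  by_contra hnc
  obtain ⟨A, -, ⟨hAc, hAe⟩, hA⟩ := Cfsg.Agent.S0126.result hp2 hΓ hnc
  have hpp : p.Prime := hp.out
  have hd0 : 0 < d := hdo.pos
  have hAn : Nontrivial A := by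
    rw [← Finite.one_lt_card_iff_nontrivial, hA]
    exact Nat.one_lt_pow (by norm_num) hpp.one_lt
  obtain ⟨z, hz⟩ := exists_ne (1 : A)
  have hy : ρ z ^ p = 1 := by rw [← map_pow, hAe z z.2, map_one]
  have hy1 : ρ z ≠ 1 := fun h => hz (Subtype.ext (hρ (h.trans (map_one ρ).symm)))
  have hfr : finrank F (R (ρ z)) = 2 * d := by
    obtain ⟨c, hc⟩ := dvd_finrank_R hd hpF hy
    have h1 : finrank F (R (ρ z)) ≤ finrank F V := Submodule.finrank_le _
    have h2 : finrank F (R (ρ z)) ≠ 0 := fun h => R_ne_bot hy1 (Submodule.finrank_eq_zero.1 h)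
    have h3 : c < 3 := by
      by_contra h
      push Not at h
      nlinarith
    interval_cases c
    · omega
    · exfalso
      have hirr : Irr (ρ z) (R (ρ z)) := irr_of_lt hd hpF hy le_rfl (fun w hw => R_inv rfl hw) (by omega)
      have h4 := even_of_irr hp2 hpF hy le_rfl (fun w hw => R_inv rfl hw) hirr (R_ne_bot hy1) b
        (fun u _ v _ => hiso z u v) (fun v hv hv' => nondeg_R (hiso z) hb hy hpF hv hv')
      rw [hc, mul_one] at h4
      exact Nat.not_even_iff_odd.2 hdo h4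
    · omega
  obtain ⟨E, hEd, hE⟩ := exists_split hp2 hpF hy (hiso z) hb hd hld hdo hfr
  have hcomm : ∀ a : A, ρ a * ρ z = ρ z * ρ a := fun a => by
    rw [← map_mul, ← map_mul]
    exact congrArg (fun x : A => ρ x) (hAc.is_comm.comm a z)
  have hap : ∀ a : A, ρ a ^ p = 1 := fun a => by rw [← map_pow, hAe a a.2, map_one]
  let ρ' : A →* Module.End F E :=
    { toFun := fun a => (ρ a).restrict ((hE (ρ a) (hap a) (hiso a) (hcomm a)).1)
      map_one' := by ext w; simp
      map_mul' := fun a b => by ext w; simp [Module.End.mul_apply] }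
  have hρ' : Function.Injective ρ' := by
    rw [injective_iff_map_eq_one]
    intro a ha
    apply Subtype.ext
    apply hρ
    rw [Subgroup.coe_one, map_one]
    have h1 : ∀ w ∈ E, ρ a w = w := fun w hw => congrArg Subtype.val (LinearMap.congr_fun ha ⟨w, hw⟩)
    have h2 := (hE (ρ a) (hap a) (hiso a) (hcomm a)).2 h1
    apply eq_one_of_R_le hd hpF (hap a)
    have h7 : R (ρ a) ≤ K (ρ z) := by
      rintro _ ⟨v, rfl⟩
      change ρ a v - v ∈ K (ρ z)
      obtain ⟨k, hk, r, hr, rfl⟩ := decomp hy hpF v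
      rw [map_add, h2 r hr, add_sub_add_right_eq_sub]
      exact Submodule.sub_mem _ (K_inv (hcomm a) hk) hk
    have h8 : finrank F (R (ρ a)) ≤ finrank F (K (ρ z)) := Submodule.finrank_mono h7
    have h9 := finrank_add (ρ z)
    omega
  have hcyc : IsCyclic A := isCyclic_of (hΓ.to_subgroup A) ρ' hρ' hd hpF (by omega)
  obtain ⟨g, hg⟩ := IsCyclic.exists_generator (α := A)
  have h1 : orderOf g = Nat.card A := orderOf_eq_card_of_forall_mem_zpowers hg
  have h2 : orderOf g ∣ p := orderOf_dvd_of_pow_eq_one (Subtype.ext (hAe g g.2))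
  rw [h1, hA] at h2
  have h3 := Nat.le_of_dvd hpp.pos h2
  nlinarith [hpp.one_lt]

end split

/-- **cyclic Sylow subgroups** -/
theorem cyclic_P {F : Type} [Field F] [Fintype F] {p : ℕ} [hp : Fact p.Prime] (h11 : 11 ≤ p) (hpF : (p : F) ≠ 0)
    (hno : ¬ p ∣ Fintype.card F ^ 4 - 1) :
    ∃ S : Sylow p (P (LieClassical.QuadForms.plusForm 4 F)),
      IsCyclic (S : Subgroup (P (LieClassical.QuadForms.plusForm 4 F))) := by
  have hpp : p.Prime := hp.out
  have hp2 : p ≠ 2 := by omega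
  have hG : Good (LieClassical.QuadForms.plusForm 4 F) := Cfsg.Agent.AutOrth.Main.good_plus (by norm_num)
  have hfinV : Finite ((Fin 4 ⊕ Fin 4 → F) ≃ₗ[F] (Fin 4 ⊕ Fin 4 → F)) :=
    Finite.of_injective (fun g : (Fin 4 ⊕ Fin 4 → F) ≃ₗ[F] (Fin 4 ⊕ Fin 4 → F) =>
      (g : (Fin 4 ⊕ Fin 4 → F) → (Fin 4 ⊕ Fin 4 → F))) DFunLike.coe_injective
  have hpq : ¬ p ∣ Fintype.card F := by
    obtain ⟨r, hch, n, hr, hc⟩ := FiniteField.card' F
    rw [hc]
    intro h
    apply hpF
    rw [(Nat.prime_dvd_prime_iff_eq hpp hr).1 (hpp.dvd_of_dvd_pow h)]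
    exact CharP.cast_eq_zero F r
  set d := orderOf ((Fintype.card F : ℕ) : ZMod p) with hd
  have hdvd : ∀ m : ℕ, p ∣ Fintype.card F ^ m - 1 ↔ d ∣ m := by
    intro m
    rw [hd, orderOf_dvd_iff_pow_eq_one, ← Nat.cast_pow, ← Nat.cast_one (R := ZMod p), ZMod.natCast_eq_natCast_iff,
      Nat.ModEq.comm, Nat.modEq_iff_dvd' (Nat.one_le_pow _ _ Fintype.card_pos)]
  have hOrd : Ordd p (Nat.card F) d := fun m hm => (hdvd m).1 (by rwa [← Nat.card_eq_fintype_card])
  have hd0 : 0 < d := by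
    rw [hd, orderOf_pos_iff]
    have h0 : ((Fintype.card F : ℕ) : ZMod p) ≠ 0 := by
      rw [Ne, ZMod.natCast_eq_zero_iff]; exact hpq
    exact isOfFinOrder_iff_pow_eq_one.2 ⟨p - 1, by omega, ZMod.pow_card_sub_one_eq_one h0⟩
  have hd4 : ¬ d ∣ 4 := fun h => hno ((hdvd 4).2 h)
  have hd35 : d = 3 ∨ 5 ≤ d := by
    by_contra h
    push Not at h
    have h1 : d ≤ 4 := by omega
    have h2 := h.1
    clear_value d
    interval_cases d
    · exact hd4 (by norm_num)
    · exact hd4 (by norm_num)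
    · exact h2 rfl
    · exact hd4 (by norm_num)
  have hfr : finrank F (Fin 4 ⊕ Fin 4 → F) = 8 := by simp
  obtain ⟨S₁⟩ : Nonempty (Sylow p ↥(E (LieClassical.QuadForms.plusForm 4 F))) := inferInstance
  let ρ : ↥(S₁ : Subgroup ↥(E (LieClassical.QuadForms.plusForm 4 F))) →* Module.End F (Fin 4 ⊕ Fin 4 → F) :=
    (LinearEquiv.automorphismGroup.toLinearMapMonoidHom (R := F) (M := Fin 4 ⊕ Fin 4 → F)).comp
      ((E (LieClassical.QuadForms.plusForm 4 F)).subtype.comp
        (S₁ : Subgroup ↥(E (LieClassical.QuadForms.plusForm 4 F))).subtype)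
  have hρ : Function.Injective ρ := fun a b hab =>
    Subtype.ext (Subtype.ext (LinearEquiv.toLinearMap_injective hab))
  have hS₁ : IsCyclic ↥(S₁ : Subgroup ↥(E (LieClassical.QuadForms.plusForm 4 F))) := by
    rcases hd35 with h3 | h5
    · refine isCyclic_odd (b := polarBilin (LieClassical.QuadForms.plusForm 4 F)) hp2 hpF (fun v hv => ?_) hOrd
        (by rw [Nat.card_eq_fintype_card]; exact (hdvd d).2 dvd_rfl) (by rw [h3]; decide) (by rw [hfr]; omega)
        S₁.2 ρ hρ fun γ u v => ?_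
      · apply hG.nondeg
        intro w
        rw [polar_comm]
        exact hv w
      · have hO := E_le_O γ.1.2
        change polar _ (γ.1.1 u) (γ.1.1 v) = polar _ u v
        unfold polar
        rw [← map_add, hO, hO, hO]
    · exact isCyclic_of S₁.2 ρ hρ hOrd hpF (by rw [hfr]; omega)
  refine ⟨S₁.mapSurjective (QuotientGroup.mk'_surjective (Subgroup.center _)), ?_⟩
  rw [Sylow.coe_mapSurjective]
  exact isCyclic_of_surjective _ ((QuotientGroup.mk' (Subgroup.center ↥(E (LieClassical.QuadForms.plusForm 4 F)))).subgroupMap_surjective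
    (S₁ : Subgroup ↥(E (LieClassical.QuadForms.plusForm 4 F))))

end Cfsg.Agent.H587.KB8
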