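import Mathlib
import Cfsg.Agent.LieClassical.OrthCore

/-!
# The quadratic form `Tr_{K'/F} N_{K/K'}` on an extension of degree four (helper587, S4822 KB8)
-/

set_option autoImplicit false
set_option linter.unusedSectionVars false

open QuadraticMap Module Cfsg.Agent.LieClassical.OrthCore

namespace Cfsg.Agent.H587.KB8

/-- the Frobenius automorphism of an extension of degree four -/
structure Quart (F K : Type*) [Field F] [Field K] [Algebra F K] (φ : K ≃ₐ[F] K) : Prop where
  four : ∀ x, φ (φ (φ (φ x))) = x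
  ne : ∃ x, φ (φ x) ≠ x
  tr : ∀ x, algebraMap F K (Algebra.trace F K x) = x + φ x + φ (φ x) + φ (φ (φ x))

theorem quart {F K : Type*} [Field F] [Field K] [Algebra F K] [Fintype F] [Finite K] (h : finrank F K = 4) :
    Quart F K (FiniteField.frobeniusAlgEquivOfAlgebraic F K) := by
  have hfd : FiniteDimensional F K := Module.finite_of_finrank_pos (by rw [h]; norm_num)
  have ho := FiniteField.orderOf_frobeniusAlgEquivOfAlgebraic F K
  rw [h] at ho
  have hap : ∀ x : K, FiniteField.frobeniusAlgEquivOfAlgebraic F K x = x ^ Fintype.card F := fun x =>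
    congrFun (FiniteField.coe_frobeniusAlgEquivOfAlgebraic F K) x
  refine ⟨fun x => ?_, ?_, fun x => ?_⟩
  · have h1 := pow_orderOf_eq_one (FiniteField.frobeniusAlgEquivOfAlgebraic F K)
    rw [ho] at h1
    exact DFunLike.congr_fun h1 x
  · by_contra hno
    push Not at hno
    have h1 : (FiniteField.frobeniusAlgEquivOfAlgebraic F K) ^ 2 = 1 := by
      ext x
      exact hno x
    have h2 := orderOf_dvd_of_pow_eq_one h1
    rw [ho] at h2
    norm_num at h2
  · rw [FiniteField.algebraMap_trace_eq_sum_pow, h, Finset.sum_range_succ, Finset.sum_range_succ,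
      Finset.sum_range_succ, Finset.sum_range_one, Nat.card_eq_fintype_card, pow_zero, pow_one, pow_one, hap, hap, hap,
      ← pow_mul, ← pow_mul]
    ring

section

variable {F K : Type*} [Field F] [Field K] [Algebra F K] [FiniteDimensional F K] {φ : K ≃ₐ[F] K}

/-- the norm to the quadratic subextension -/
def nm (φ : K ≃ₐ[F] K) (x : K) : K := x * φ (φ x)

theorem nm_mul (x y : K) : nm φ (x * y) = nm φ x * nm φ y := by
  unfold nm
  rw [map_mul, map_mul]
  ring

theorem nm_phi (x : K) : nm φ (φ x) = φ (nm φ x) := by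
  unfold nm
  rw [map_mul]

theorem Quart.nm_fix (h : Quart F K φ) (x : K) : φ (φ (nm φ x)) = nm φ x := by
  unfold nm
  rw [map_mul, map_mul, h.four, mul_comm]

theorem Quart.exists_lam (h : Quart F K φ) : ∃ l : K, l + φ (φ l) = 1 := by
  obtain ⟨y, hy⟩ : ∃ y : K, y + φ (φ y) ≠ 0 := by
    by_contra hno
    push Not at hno
    have h1 := hno 1
    rw [map_one, map_one] at h1
    obtain ⟨x, hx⟩ := h.ne
    apply hx
    have h2 := hno x
    have h3 : x + x = 0 := by rw [← two_mul, show (2 : K) = 1 + 1 by norm_num, h1, zero_mul]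
    have h4 : φ (φ x) = - x := eq_neg_of_add_eq_zero_right h2
    rw [h4]
    exact neg_eq_of_add_eq_zero_left h3
  set s := y + φ (φ y) with hs
  have h1 : φ (φ s) = s := by rw [hs, map_add, map_add, h.four, add_comm]
  refine ⟨y * s⁻¹, ?_⟩
  rw [map_mul, map_mul, map_inv₀, map_inv₀, h1, ← add_mul, ← hs, mul_inv_cancel₀ hy]

/-- **the quadratic form** -/
theorem Quart.exists_form [Algebra.IsSeparable F K] (h : Quart F K φ) :
    ∃ Q : QuadraticForm F K, (∀ x, algebraMap F K (Q x) = nm φ x + φ (nm φ x)) ∧ Nondeg Q := by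
  obtain ⟨l, hl⟩ := h.exists_lam
  set B : LinearMap.BilinForm F K := LinearMap.mk₂ F (fun x y => Algebra.trace F K (l * x * φ (φ y)))
    (fun x x' y => by rw [mul_add, add_mul, map_add]) (fun c x y => by
      rw [mul_smul_comm, smul_mul_assoc, map_smul]) (fun x y y' => by
      rw [map_add, map_add, mul_add, map_add]) (fun c x y => by
      rw [map_smul, map_smul, mul_smul_comm, map_smul]) with hB
  have hBa : ∀ x y, B x y = Algebra.trace F K (l * x * φ (φ y)) := fun x y => rfl
  have hQ : ∀ x, algebraMap F K (B.toQuadraticMap x) = nm φ x + φ (nm φ x) := by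
    intro x
    rw [LinearMap.BilinMap.toQuadraticMap_apply, hBa, h.tr]
    have e1 : l * x * φ (φ x) = l * nm φ x := by unfold nm; ring
    rw [e1]
    have e2 : l * nm φ x + φ (l * nm φ x) + φ (φ (l * nm φ x)) + φ (φ (φ (l * nm φ x))) =
        (l + φ (φ l)) * nm φ x + φ ((l + φ (φ l)) * nm φ x) := by
      simp only [map_mul, map_add, h.nm_fix]; ring
    rw [e2, hl, one_mul]
  refine ⟨B.toQuadraticMap, hQ, fun x hx => ?_⟩
  have hp : ∀ y, algebraMap F K (polar B.toQuadraticMap x y) = algebraMap F K (Algebra.trace F K (x * φ (φ y))) := by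
    intro y
    rw [polar, map_sub, map_sub, hQ, hQ, hQ, h.tr]
    unfold nm
    simp only [map_add, map_mul, h.four]
    ring
  have hx' : ∀ z, Algebra.trace F K (x * z) = 0 := by
    intro z
    have h1 := hp (φ (φ z))
    rw [hx, map_zero, h.four] at h1
    exact (algebraMap F K).injective (by rw [map_zero]; exact h1.symm)
  have h1 := (traceForm_nondegenerate F K).1 x
  exact h1 fun z => by rw [Algebra.traceForm_apply]; exact hx' z

end

end Cfsg.Agent.H587.KB8
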