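import Cfsg.Agent.H587.KB8.Geo
import Cfsg.Agent.H587.KB8.Field
import Cfsg.Agent.H200.LinFixC

/-!
# Elements of order `p` in the model `K × K`, `[K : F] = 4` (helper587, S4822 KB8)
-/

set_option autoImplicit false
set_option linter.unusedSectionVars false

open QuadraticMap Module Cfsg.Agent.LieClassical.OrthCore Cfsg.Agent.LieClassical.OrthTrans
open Cfsg.Agent.LieClassical.OrthFinite Cfsg.Agent.ClassicalGeometry

namespace Cfsg.Agent.H587.KB8

section cj

variable {F W V : Type*} [Field F] [AddCommGroup W] [Module F W] [AddCommGroup V] [Module F V]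

/-- conjugation by an isomorphism -/
def cj (ψ : W ≃ₗ[F] V) : (W ≃ₗ[F] W) →* (V ≃ₗ[F] V) where
  toFun f := (ψ.symm.trans f).trans ψ
  map_one' := by ext v; exact ψ.apply_symm_apply v
  map_mul' f g := by
    ext v
    change ψ (f (g (ψ.symm v))) = ψ (f (ψ.symm (ψ (g (ψ.symm v)))))
    rw [LinearEquiv.symm_apply_apply]

theorem cj_apply (ψ : W ≃ₗ[F] V) (f : W ≃ₗ[F] W) (w : W) : cj ψ f (ψ w) = ψ (f w) := by
  change ψ (f (ψ.symm (ψ w))) = _
  rw [LinearEquiv.symm_apply_apply]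

theorem cj_injective (ψ : W ≃ₗ[F] V) : Function.Injective (cj ψ) := by
  intro f g h
  ext w
  apply ψ.injective
  rw [← cj_apply, ← cj_apply, h]

end cj

section conj

variable {F : Type*} [Field F] {L : Type*} [Field L] [Algebra F L] [FiniteDimensional F L]

theorem conjRoot_of_semi {x x' : L} {θ : L →ₗ[F] L} (h0 : θ ≠ 0) (h : ∀ y, θ (x * y) = x' * θ y) :
    IsConjRoot F x x' := by
  have key : ∀ (P : Polynomial F) (y : L), θ (Polynomial.aeval x P * y) = Polynomial.aeval x' P * θ y := by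
    intro P
    induction P using Polynomial.induction_on with
    | C a =>
      intro y
      rw [Polynomial.aeval_C, Polynomial.aeval_C, ← Algebra.smul_def, ← Algebra.smul_def, map_smul]
    | add P Q hP hQ => intro y; rw [map_add, map_add, add_mul, add_mul, map_add, hP, hQ]
    | monomial n a hn =>
      intro y
      rw [pow_succ, ← mul_assoc, map_mul (Polynomial.aeval x), map_mul (Polynomial.aeval x'), Polynomial.aeval_X,
        Polynomial.aeval_X, mul_assoc, hn, h, mul_assoc]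
  obtain ⟨y, hy⟩ : ∃ y, θ y ≠ 0 := by
    by_contra hno
    push Not at hno
    exact h0 (LinearMap.ext hno)
  have h1 := key (minpoly F x) y
  rw [minpoly.aeval, zero_mul, map_zero] at h1
  have h2 : Polynomial.aeval x' (minpoly F x) = 0 := (mul_eq_zero.1 h1.symm).resolve_right hy
  have hx : IsIntegral F x := Algebra.IsIntegral.isIntegral x
  exact (minpoly.eq_of_irreducible_of_monic (minpoly.irreducible hx) h2 (minpoly.monic hx))

end conj

section model

variable {F : Type*} [Field F] {K : Type*} [Field K] [Algebra F K] [FiniteDimensional F K] {φ : K ≃ₐ[F] K}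
  {ι : Type} [Fintype ι] [DecidableEq ι] {Q : QuadraticForm F (ι → F)} {Q₁ : QuadraticForm F K}
  {ψ : (K × K) ≃ₗ[F] (ι → F)}

/-- diagonal maps -/
def dg : Kˣ × Kˣ →* ((K × K) ≃ₗ[F] (K × K)) where
  toFun a := (DistribMulAction.toModuleAut F K a.1).prodCongr (DistribMulAction.toModuleAut F K a.2)
  map_one' := by ext w <;> simp
  map_mul' a b := by
    ext w <;> simp [mul_smul]

theorem dg_apply (a : Kˣ × Kˣ) (w : K × K) : dg (F := F) a w = ((a.1 : K) * w.1, (a.2 : K) * w.2) := rfl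

theorem dg_injective : Function.Injective (dg (F := F) (K := K)) := by
  intro a b h
  have h1 := DFunLike.congr_fun h ((1 : K), (1 : K))
  rw [dg_apply, dg_apply] at h1
  simp only [mul_one, Prod.mk.injEq] at h1
  exact Prod.ext (Units.ext h1.1) (Units.ext h1.2)

/-- the support of a linear map -/
def Supp (x : (ι → F) ≃ₗ[F] (ι → F)) (k : K) : Prop := ∃ θ : K →ₗ[F] (ι → F), θ ≠ 0 ∧ ∀ v, x (θ v) = θ (k * v)

theorem Supp.conj {x y g : (ι → F) ≃ₗ[F] (ι → F)} {k : K} (h : Supp x k) (hg : g * x * g⁻¹ = y) : Supp y k := by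
  obtain ⟨θ, h0, h1⟩ := h
  refine ⟨g.toLinearMap ∘ₗ θ, fun h2 => h0 ?_, fun v => ?_⟩
  · ext v : 1
    apply g.injective
    rw [LinearMap.zero_apply, map_zero]
    exact LinearMap.congr_fun h2 v
  · change y (g (θ v)) = g (θ (k * v))
    rw [← h1, ← hg]
    change g (x (g.symm (g (θ v)))) = _
    rw [LinearEquiv.symm_apply_apply]

theorem supp_conj_iff {x y g : (ι → F) ≃ₗ[F] (ι → F)} {k : K} (hg : g * x * g⁻¹ = y) : Supp y k ↔ Supp x k :=
  ⟨fun h => h.conj (g := g⁻¹) (by rw [← hg]; group), fun h => h.conj hg⟩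

theorem supp_fst (a : Kˣ × Kˣ) : Supp (cj ψ (dg a)) (a.1 : K) := by
  refine ⟨ψ.toLinearMap ∘ₗ LinearMap.inl F K K, fun h => ?_, fun v => ?_⟩
  · have h1 := LinearMap.congr_fun h (1 : K)
    have h2 : ψ ((1 : K), (0 : K)) = 0 := h1
    rw [LinearEquiv.map_eq_zero_iff] at h2
    exact one_ne_zero (congrArg Prod.fst h2)
  · change cj ψ (dg a) (ψ (v, 0)) = ψ ((a.1 : K) * v, 0)
    rw [cj_apply, dg_apply, mul_zero]

theorem supp_snd (a : Kˣ × Kˣ) : Supp (cj ψ (dg a)) (a.2 : K) := by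
  refine ⟨ψ.toLinearMap ∘ₗ LinearMap.inr F K K, fun h => ?_, fun v => ?_⟩
  · have h1 := LinearMap.congr_fun h (1 : K)
    have h2 : ψ ((0 : K), (1 : K)) = 0 := h1
    rw [LinearEquiv.map_eq_zero_iff] at h2
    exact one_ne_zero (congrArg Prod.snd h2)
  · change cj ψ (dg a) (ψ (0, v)) = ψ (0, (a.2 : K) * v)
    rw [cj_apply, dg_apply, mul_zero]

theorem supp_dg {a : Kˣ × Kˣ} {k : K} (h : Supp (cj ψ (dg a)) k) :
    IsConjRoot F k (a.1 : K) ∨ IsConjRoot F k (a.2 : K) := by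
  obtain ⟨θ, h0, h1⟩ := h
  have h2 : ∀ v, dg (F := F) a (ψ.symm (θ v)) = ψ.symm (θ (k * v)) := by
    intro v
    apply ψ.injective
    rw [← cj_apply, LinearEquiv.apply_symm_apply, LinearEquiv.apply_symm_apply, h1]
  by_cases hf : LinearMap.fst F K K ∘ₗ ψ.symm.toLinearMap ∘ₗ θ = 0
  · right
    refine conjRoot_of_semi (θ := LinearMap.snd F K K ∘ₗ ψ.symm.toLinearMap ∘ₗ θ) (fun hs => h0 ?_) fun v => ?_
    · ext v : 1
      apply ψ.symm.injective
      rw [LinearMap.zero_apply, map_zero]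
      exact Prod.ext (LinearMap.congr_fun hf v) (LinearMap.congr_fun hs v)
    · exact (congrArg Prod.snd (h2 v)).symm
  · left
    refine conjRoot_of_semi (θ := LinearMap.fst F K K ∘ₗ ψ.symm.toLinearMap ∘ₗ θ) hf fun v => ?_
    exact (congrArg Prod.fst (h2 v)).symm

end model

/-- the model -/
structure Mdl {F : Type*} [Field F] {K : Type*} [Field K] [Algebra F K] {ι : Type} [Fintype ι] [DecidableEq ι]
    (φ : K ≃ₐ[F] K) (Q : QuadraticForm F (ι → F)) (Q₁ : QuadraticForm F K) (ψ : (K × K) ≃ₗ[F] (ι → F)) : Prop where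
  good : Good Q
  dim : finrank F K = 4
  qt : Quart F K φ
  form : ∀ x, algebraMap F K (Q₁ x) = nm φ x + φ (nm φ x)
  iso : ∀ w, Q (ψ w) = Q₁ w.1 + Q₁ w.2

namespace Mdl

variable {F : Type*} [Field F] {K : Type*} [Field K] [Algebra F K] [FiniteDimensional F K] {φ : K ≃ₐ[F] K}
  {ι : Type} [Fintype ι] [DecidableEq ι] {Q : QuadraticForm F (ι → F)} {Q₁ : QuadraticForm F K}
  {ψ : (K × K) ≃ₗ[F] (ι → F)} (h : Mdl φ Q Q₁ ψ)

include h

theorem q_mul {a : K} (ha : nm φ a = 1) (x : K) : Q₁ (a * x) = Q₁ x := by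
  apply (algebraMap F K).injective
  rw [h.form, h.form, nm_mul, ha, one_mul]

theorem q_phi (x : K) : Q₁ (φ x) = Q₁ x := by
  apply (algebraMap F K).injective
  rw [h.form, h.form, nm_phi, h.qt.nm_fix, add_comm]

theorem mem_O {f : (K × K) ≃ₗ[F] (K × K)} (hf : ∀ w, Q₁ (f w).1 + Q₁ (f w).2 = Q₁ w.1 + Q₁ w.2) : cj ψ f ∈ O Q := by
  intro v
  obtain ⟨w, rfl⟩ := ψ.surjective v
  rw [cj_apply, h.iso, h.iso, hf]

theorem dg_mem_O {a : Kˣ × Kˣ} (h1 : nm φ (a.1 : K) = 1) (h2 : nm φ (a.2 : K) = 1) : cj ψ (dg a) ∈ O Q :=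
  h.mem_O fun w => by rw [dg_apply, h.q_mul h1, h.q_mul h2]

theorem dg_mem_E {a : Kˣ × Kˣ} (h1 : nm φ (a.1 : K) = 1) (h2 : nm φ (a.2 : K) = 1) {n : ℕ} (hn : Odd n)
    (ha : a ^ n = 1) : cj ψ (dg a) ∈ E Q :=
  mem_E_of_odd h.good (h.dg_mem_O h1 h2) hn (by rw [← map_pow, ← map_pow, ha, map_one, map_one])

/-- `(v, w) ↦ (v, φ (φ w))` -/
def cA (φ : K ≃ₐ[F] K) (ψ : (K × K) ≃ₗ[F] (ι → F)) : (ι → F) ≃ₗ[F] (ι → F) :=
  cj ψ ((LinearEquiv.refl F K).prodCongr (φ.toLinearEquiv.trans φ.toLinearEquiv))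

theorem cA_mem_E : cA φ ψ ∈ E Q := by
  have h1 : cj ψ ((LinearEquiv.refl F K).prodCongr φ.toLinearEquiv) ∈ O Q := by
    refine h.mem_O fun w => ?_
    change Q₁ w.1 + Q₁ (φ w.2) = _
    rw [h.q_phi]
  have h2 := sq_mem_E h.good h1
  rw [← map_mul] at h2
  exact h2

theorem cA_sq : cA φ ψ ^ 4 = 1 := by
  have h1 : cA φ ψ ^ 2 = 1 := by
    rw [cA, ← map_pow]
    have e : ((LinearEquiv.refl F K).prodCongr (φ.toLinearEquiv.trans φ.toLinearEquiv)) ^ 2 = 1 := by
      rw [pow_two]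
      ext1 w
      change (w.1, φ (φ (φ (φ w.2)))) = w
      rw [h.qt.four]
    rw [e, map_one]
  rw [show 4 = 2 * 2 from rfl, pow_mul, h1, one_pow]

/-- `(v, w) ↦ (-w, v)` -/
def sw (F K : Type*) [Field F] [Field K] [Algebra F K] : (K × K) ≃ₗ[F] (K × K) :=
  (LinearEquiv.prodComm F K K).trans ((LinearEquiv.neg F).prodCongr (LinearEquiv.refl F K))

omit h in
theorem sw_apply (w : K × K) : sw F K w = (-w.2, w.1) := rfl

omit h in
theorem sw_four : cj ψ (sw F K) ^ 4 = 1 := by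
  rw [← map_pow]
  have e : (sw F K) ^ 4 = 1 := by
    ext1 w
    change sw F K (sw F K (sw F K (sw F K w))) = w
    simp [sw_apply]
  rw [e, map_one]

theorem sw_mem_O : cj ψ (sw F K) ∈ O Q := by
  refine h.mem_O fun w => ?_
  rw [sw_apply, QuadraticMap.map_neg, add_comm]

/-- odd characteristic: `(v, w) ↦ (-w, v)` is a square -/
theorem sw_mem_E_odd {a : K} (ha : 2 * (a * a) = 1) (hφ : φ (φ a) = a) : cj ψ (sw F K) ∈ E Q := by
  let m : (K × K) ≃ₗ[F] (K × K) :=
    { toFun := fun w => (a * (w.1 - w.2), a * (w.1 + w.2))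
      invFun := fun w => (a * (w.1 + w.2), a * (w.2 - w.1))
      map_add' := fun w w' => by ext <;> simp <;> ring
      map_smul' := fun c w => by
        ext
        · change a * (c • w.1 - c • w.2) = c • (a * (w.1 - w.2))
          rw [← smul_sub, mul_smul_comm]
        · change a * (c • w.1 + c • w.2) = c • (a * (w.1 + w.2))
          rw [← smul_add, mul_smul_comm]
      left_inv := fun w => by
        refine Prod.ext ?_ ?_
        · change a * (a * (w.1 - w.2) + a * (w.1 + w.2)) = w.1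
          linear_combination w.1 * ha
        · change a * (a * (w.1 + w.2) - a * (w.1 - w.2)) = w.2
          linear_combination w.2 * ha
      right_inv := fun w => by
        refine Prod.ext ?_ ?_
        · change a * (a * (w.1 + w.2) - a * (w.2 - w.1)) = w.1
          linear_combination w.1 * ha
        · change a * (a * (w.1 + w.2) + a * (w.2 - w.1)) = w.2
          linear_combination w.2 * ha }
  have hm : cj ψ m ∈ O Q := by
    refine h.mem_O fun w => ?_
    apply (algebraMap F K).injective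
    change algebraMap F K (Q₁ (a * (w.1 - w.2)) + Q₁ (a * (w.1 + w.2))) = _
    rw [map_add, map_add, h.form, h.form, h.form, h.form]
    have e : nm φ (a * (w.1 - w.2)) + nm φ (a * (w.1 + w.2)) = nm φ w.1 + nm φ w.2 := by
      unfold nm
      rw [map_mul, map_mul, map_mul, map_mul, hφ, map_sub, map_sub, map_add, map_add]
      linear_combination (w.1 * φ (φ w.1) + w.2 * φ (φ w.2)) * ha
    have e2 := congrArg φ e
    rw [map_add, map_add] at e2
    linear_combination e + e2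
  have h2 := sq_mem_E h.good hm
  rw [← map_mul] at h2
  have e : m * m = sw F K := by
    ext1 w
    refine Prod.ext ?_ ?_
    · change a * (a * (w.1 - w.2) - a * (w.1 + w.2)) = -w.2
      linear_combination (-w.2) * ha
    · change a * (a * (w.1 - w.2) + a * (w.1 + w.2)) = w.1
      linear_combination w.1 * ha
  rwa [e] at h2

section sign

variable (hQ : (polarBilin Q).Nondegenerate) (hι : Fintype.card ι = 8)

/-- characteristic two -/
theorem sw_mem_E_even [Finite F] (hQ : (polarBilin Q).Nondegenerate) (hι : Fintype.card ι = 8) (h2 : (2 : F) = 0) :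
    cj ψ (sw F K) ∈ E Q := by
  have h4 : (∃ θ : F, θ ≠ 0 ∧ θ ≠ 1) ∨ Fintype.card ι ≠ 4 := Or.inr (by rw [hι]; norm_num)
  refine mem_E_of_sgn hQ h4 h2 h.good ⟨cj ψ (sw F K), h.sw_mem_O⟩ ?_
  have hneg : ∀ x : K, -x = x := by
    intro x
    have h20 : (2 : K) = 0 := by
      have := congrArg (algebraMap F K) h2
      rwa [map_ofNat, map_zero] at this
    have h3 : x + x = 0 := by rw [← two_mul, h20, zero_mul]
    exact neg_eq_of_add_eq_zero_left h3
  have hfx : fx (cj ψ (sw F K)) = LinearMap.range (ψ.toLinearMap ∘ₗ LinearMap.prod LinearMap.id LinearMap.id) := by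
    ext v
    obtain ⟨w, rfl⟩ := ψ.surjective v
    rw [mem_fx, cj_apply, sw_apply]
    constructor
    · intro h3
      have h5 := ψ.injective h3
      refine ⟨w.2, ?_⟩
      change ψ (w.2, w.2) = ψ w
      congr 1
      exact Prod.ext (congrArg Prod.snd h5).symm rfl
    · rintro ⟨u, hu⟩
      have hu' : ψ (u, u) = ψ w := hu
      have h5 := ψ.injective hu'
      rw [← h5]
      change ψ (-u, u) = ψ (u, u)
      rw [hneg]
  rw [sgn_eq, hι, hfx, LinearMap.finrank_range_of_inj, h.dim]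
  · decide
  · intro u v huv
    have h5 : ψ (u, u) = ψ (v, v) := huv
    exact congrArg Prod.fst (ψ.injective h5)

theorem sw_mem_E [Finite F] (hQ : (polarBilin Q).Nondegenerate) (hι : Fintype.card ι = 8)
    (ha : (2 : F) ≠ 0 → ∃ a : K, 2 * (a * a) = 1 ∧ φ (φ a) = a) : cj ψ (sw F K) ∈ E Q := by
  by_cases h2 : (2 : F) = 0
  · exact h.sw_mem_E_even hQ hι h2
  · obtain ⟨a, h3, h4⟩ := ha h2
    exact h.sw_mem_E_odd h3 h4

open Cfsg.Agent.H200.LinFix in
/-- **the sign of a centralizing element** -/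
theorem sgn_of_comm [Finite F] {p : ℕ} [Fact p.Prime] (hd : Ordd p (Nat.card F) 4)
    (hQ : (polarBilin Q).Nondegenerate) (h4 : (∃ θ : F, θ ≠ 0 ∧ θ ≠ 1) ∨ Fintype.card ι ≠ 4)
    (hι : Fintype.card ι = 8) {a : Kˣ × Kˣ} (ha : a ^ p = 1) (h1 : a.1 ≠ 1) (h2 : a.2 ≠ 1)
    {g : (ι → F) ≃ₗ[F] (ι → F)} (hg : g ∈ O Q) (hc : g * cj ψ (dg a) = cj ψ (dg a) * g) :
    sgn hQ h4 ⟨g, hg⟩ = 1 := by
  have h5 : 4 ∣ finrank F (fx g) := by
    refine dvd_finrank (p := p) hd (g := ((cj ψ (dg a) : (ι → F) ≃ₗ[F] (ι → F)) : Module.End F (ι → F))) (W := fx g)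
      (fun w hw => ?_) (fun w _ => ?_) (fun w _ hfw => ?_)
    · rw [mem_fx] at hw ⊢
      change g (cj ψ (dg a) w) = cj ψ (dg a) w
      have h6 : g (cj ψ (dg a) w) = cj ψ (dg a) (g w) := DFunLike.congr_fun hc w
      rw [h6, hw]
    · have h6 : ((cj ψ (dg a) : (ι → F) ≃ₗ[F] (ι → F)) : Module.End F (ι → F)) ^ p =
          (((cj ψ (dg a)) ^ p : (ι → F) ≃ₗ[F] (ι → F)) : Module.End F (ι → F)) :=
        (map_pow (LinearEquiv.automorphismGroup.toLinearMapMonoidHom (R := F) (M := ι → F)) (cj ψ (dg a)) p).symm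
      rw [h6, ← map_pow, ← map_pow, ha, map_one, map_one]
      rfl
    · obtain ⟨u, rfl⟩ := ψ.surjective w
      have h6 : cj ψ (dg a) (ψ u) = ψ u := hfw
      rw [cj_apply, dg_apply] at h6
      have h7 := ψ.injective h6
      have h8 : (a.1 : K) * u.1 = u.1 := congrArg Prod.fst h7
      have h9 : (a.2 : K) * u.2 = u.2 := congrArg Prod.snd h7
      have h10 : u.1 = 0 := by
        by_contra h0
        exact h1 (Units.ext (mul_right_cancel₀ h0 (by rw [h8, Units.val_one, one_mul])))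
      have h11 : u.2 = 0 := by
        by_contra h0
        exact h2 (Units.ext (mul_right_cancel₀ h0 (by rw [h9, Units.val_one, one_mul])))
      have h12 : u = 0 := Prod.ext h10 h11
      rw [h12, map_zero]
  obtain ⟨k, hk⟩ := h5
  rw [sgn_eq]
  change (-1 : ℤˣ) ^ (finrank F (fx g) + Fintype.card ι) = 1
  rw [hk, hι]
  exact Even.neg_one_pow ⟨2 * k + 4, by ring⟩

/-- the two classes -/
theorem not_conj [Finite F] {p : ℕ} [Fact p.Prime] (hd : Cfsg.Agent.H200.LinFix.Ordd p (Nat.card F) 4)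
    (hQ : (polarBilin Q).Nondegenerate) (hι : Fintype.card ι = 8) {a : Kˣ × Kˣ} (ha : a ^ p = 1) (h1 : a.1 ≠ 1)
    (h2 : a.2 ≠ 1) {v : ι → F} (hv : Q v ≠ 0) {g : (ι → F) ≃ₗ[F] (ι → F)} (hg : g ∈ E Q)
    (hc : g * cj ψ (dg a) * g⁻¹ = refl Q v hv * cj ψ (dg a) * (refl Q v hv)⁻¹) : False := by
  have h4 : (∃ θ : F, θ ≠ 0 ∧ θ ≠ 1) ∨ Fintype.card ι ≠ 4 := Or.inr (by rw [hι]; norm_num)
  have hk : (refl Q v hv)⁻¹ * g ∈ O Q := (O Q).mul_mem ((O Q).inv_mem (refl_mem_O hv)) (E_le_O hg)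
  have h5 := h.sgn_of_comm hd hQ h4 hι ha h1 h2 hk (by
    rw [mul_assoc, inv_mul_eq_iff_eq_mul, ← mul_assoc, ← mul_assoc, ← mul_inv_eq_iff_eq_mul]
    exact hc)
  have h6 : (⟨(refl Q v hv)⁻¹ * g, hk⟩ : O Q) = (⟨refl Q v hv, refl_mem_O hv⟩ : O Q)⁻¹ * ⟨g, E_le_O hg⟩ := rfl
  rw [h6, map_mul, map_inv, sgn_refl, sgn_E hQ h4 h.good ⟨g, E_le_O hg⟩ hg] at h5
  exact absurd h5 (by decide)

omit h in
theorem sw_conj (a : Kˣ × Kˣ) : cj ψ (sw F K) * cj ψ (dg a) * (cj ψ (sw F K))⁻¹ = cj ψ (dg a.swap) := by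
  rw [mul_inv_eq_iff_eq_mul, ← map_mul, ← map_mul]
  congr 1
  ext1 w
  change sw F K (dg a w) = dg a.swap (sw F K w)
  rw [dg_apply, dg_apply, sw_apply, sw_apply]
  exact Prod.ext (by simp) rfl

theorem cA_conj {z : Kˣ} (hz : nm φ (z : K) = 1) :
    cA φ ψ * cj ψ (dg (1, z)) * (cA φ ψ)⁻¹ = cj ψ (dg (1, z)⁻¹) := by
  rw [mul_inv_eq_iff_eq_mul, cA, ← map_mul, ← map_mul]
  congr 1
  ext1 w
  have h1 : φ (φ (z : K)) = ((z⁻¹ : Kˣ) : K) := by
    rw [Units.val_inv_eq_inv_val]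
    exact eq_inv_of_mul_eq_one_right hz
  refine Prod.ext ?_ ?_
  · change ((1 : Kˣ) : K) * w.1 = ((1⁻¹ : Kˣ) : K) * w.1
    rw [inv_one]
  · change φ (φ ((z : K) * w.2)) = ((z⁻¹ : Kˣ) : K) * φ (φ w.2)
    rw [map_mul, map_mul, h1]

theorem cA_comm (a : Kˣ) : cA φ ψ * cj ψ (dg (a, 1)) = cj ψ (dg (a, 1)) * cA φ ψ := by
  rw [cA, ← map_mul, ← map_mul]
  congr 1
  ext1 w
  refine Prod.ext rfl ?_
  change φ (φ (((1 : Kˣ) : K) * w.2)) = ((1 : Kˣ) : K) * φ (φ w.2)
  rw [Units.val_one, one_mul, one_mul]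

end sign

end Mdl

end Cfsg.Agent.H587.KB8
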