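import Cfsg.Agent.H587.KB8.Four
import Cfsg.Agent.H587.KB8.Fam

/-!
# The lower bound for `k(B₀(Ω₈⁺(q)))`, `p ∣ q² + 1` (helper587, S4822 KB8)
-/

set_option autoImplicit false
set_option linter.unusedSectionVars false
set_option linter.unusedSimpArgs false

open QuadraticMap Module Cfsg Cfsg.Agent.LieClassical.OrthCore Cfsg.Agent.LieClassical.OrthTrans
open Cfsg.Agent.LieClassical.OrthFinite Cfsg.Agent.ClassicalGeometry Cfsg.Agent.H508.KB

namespace Cfsg.Agent.H587.KB8.Mdl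

/-- index set of the family -/
abbrev J (H : ℕ) : Type := Unit ⊕ (Fin H ⊕ ((Fin H × Fin H) ⊕ Fin H))

/-- the two components -/
def pr {H : ℕ} : J H → Option (Fin H) × Option (Fin H)
  | .inl _ => (none, none)
  | .inr (.inl i) => (some i, none)
  | .inr (.inr (.inl ij)) => (some (min ij.1 ij.2), some (max ij.1 ij.2))
  | .inr (.inr (.inr i)) => (some i, some i)

/-- mirrored -/
def mi {H : ℕ} : J H → Prop
  | .inl _ => False
  | .inr (.inl _) => False
  | .inr (.inr (.inl ij)) => ij.2 < ij.1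
  | .inr (.inr (.inr _)) => True

instance {H : ℕ} : DecidablePred (mi (H := H))
  | .inl _ => inferInstanceAs (Decidable False)
  | .inr (.inl _) => inferInstanceAs (Decidable False)
  | .inr (.inr (.inl ij)) => inferInstanceAs (Decidable (ij.2 < ij.1))
  | .inr (.inr (.inr _)) => inferInstanceAs (Decidable True)

/-- the ranks -/
def lo {H : ℕ} : J H → ℕ
  | .inl _ => 1
  | .inr (.inl _) => 2
  | .inr (.inr (.inl ij)) => if ij.1 = ij.2 then 2 else 1
  | .inr (.inr (.inr _)) => 2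

theorem sum_lo (H : ℕ) : ∑ j : J H, lo j = 1 + (2 * H + ((H * H + H) + 2 * H)) := by
  rw [Fintype.sum_sum_type, Fintype.sum_sum_type, Fintype.sum_sum_type]
  have h1 : ∑ a : Unit, lo (Sum.inl a : J H) = 1 := by simp [lo]
  have h2 : ∑ a : Fin H, lo (Sum.inr (Sum.inl a) : J H) = 2 * H := by simp [lo, mul_comm]
  have h4 : ∑ a : Fin H, lo (Sum.inr (Sum.inr (Sum.inr a)) : J H) = 2 * H := by simp [lo, mul_comm]
  have h3 : ∑ a : Fin H × Fin H, lo (Sum.inr (Sum.inr (Sum.inl a)) : J H) = H * H + H := by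
    have h5 : ∀ a : Fin H × Fin H, lo (Sum.inr (Sum.inr (Sum.inl a)) : J H) = 1 + if a.1 = a.2 then 1 else 0 := by
      intro a
      change (if a.1 = a.2 then 2 else 1) = _
      split_ifs <;> rfl
    simp only [h5]
    rw [Finset.sum_add_distrib, Fintype.sum_prod_type (f := fun a : Fin H × Fin H => if a.1 = a.2 then 1 else 0)]
    simp
  rw [h1, h2, h3, h4]

/-- **separation of the indices** -/
theorem eq_of_pr {H : ℕ} {j j' : J H} (h1 : (pr j).1 = (pr j').1 ∨ (pr j).1 = (pr j').2)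
    (h2 : (pr j).2 = (pr j').1 ∨ (pr j).2 = (pr j').2) (h3 : (pr j').1 = (pr j).1 ∨ (pr j').1 = (pr j).2)
    (h4 : (pr j').2 = (pr j).1 ∨ (pr j').2 = (pr j).2) :
    j = j' ∨ ((pr j).1 ≠ none ∧ (pr j).2 ≠ none ∧ pr j = pr j' ∧ (mi j ↔ ¬ mi j')) := by
  rcases j with _ | i | ⟨i, k⟩ | i <;> rcases j' with _ | i' | ⟨i', k'⟩ | i' <;>
    simp only [pr, mi, reduceCtorEq, Option.some.injEq, or_self, or_false, false_or, Prod.mk.injEq, Sum.inr.injEq,
      Sum.inl.injEq, ne_eq, not_false_eq_true, true_and, not_true_eq_false, not_lt] at h1 h2 h3 h4 ⊢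
  all_goals first
    | exact Or.inl h1
    | (simp only [Fin.ext_iff, Fin.coe_min, Fin.coe_max, Fin.lt_def, iff_false, true_iff] at h1 h2 h3 h4 ⊢; omega)

section

/-- the values -/
def vl {K : Type*} [Field K] {H : ℕ} (a : Fin H → Kˣ) (o : Option (Fin H)) : Kˣ := o.elim 1 a

theorem vl_conj {F K : Type*} [Field F] [Field K] [Algebra F K] [FiniteDimensional F K] {H : ℕ} {a : Fin H → Kˣ}
    (ha1 : ∀ i, a i ≠ 1) (hcl : ∀ i j, IsConjRoot F (a i : K) (a j : K) → i = j) {o o' : Option (Fin H)}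
    (h : IsConjRoot F (vl a o : K) (vl a o' : K)) : o = o' := by
  have key : ∀ x : Kˣ, IsConjRoot F ((1 : Kˣ) : K) (x : K) → x = 1 := by
    intro x hx
    have h1 : minpoly F ((1 : Kˣ) : K) = minpoly F (x : K) := hx
    have h2 := minpoly.aeval F (x : K)
    rw [← h1, Units.val_one, minpoly.one, map_sub, Polynomial.aeval_X, map_one, sub_eq_zero] at h2
    exact Units.ext h2
  rcases o with _ | i <;> rcases o' with _ | i'
  · rfl
  · exact absurd (key _ h) (ha1 i')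
  · exact absurd (key _ h.symm) (ha1 i)
  · rw [hcl i i' h]

variable {F : Type} [Field F] [Finite F] {K : Type} [Field K] [Algebra F K] [FiniteDimensional F K] {φ : K ≃ₐ[F] K}
  {ι : Type} [Fintype ι] [DecidableEq ι] {Q : QuadraticForm F (ι → F)} {Q₁ : QuadraticForm F K}
  {ψ : (K × K) ≃ₗ[F] (ι → F)} {p : ℕ} [Fact p.Prime] {M : Ideal AlgInt}

/-- conjugation by a reflection -/
def cr {v : ι → F} (hv : Q v ≠ 0) : ↥(E Q) →* ↥(E Q) where
  toFun g := ⟨refl Q v hv * g.1 * (refl Q v hv)⁻¹, conj_mem_E (refl_mem_O hv) g.2⟩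
  map_one' := by
    apply Subtype.ext
    change refl Q v hv * 1 * (refl Q v hv)⁻¹ = 1
    group
  map_mul' g g' := by
    apply Subtype.ext
    change refl Q v hv * (g.1 * g'.1) * (refl Q v hv)⁻¹ =
      (refl Q v hv * g.1 * (refl Q v hv)⁻¹) * (refl Q v hv * g'.1 * (refl Q v hv)⁻¹)
    group

theorem cr_ne {v : ι → F} (hv : Q v ≠ 0) {g : ↥(E Q)} (hg : g ≠ 1) : cr hv g ≠ 1 := by
  intro h
  apply hg
  apply Subtype.ext
  have h1 : refl Q v hv * g.1 * (refl Q v hv)⁻¹ = 1 := congrArg Subtype.val h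
  have h2 : g.1 = 1 := by
    rw [mul_inv_eq_one] at h1
    exact mul_left_cancel (h1.trans (mul_one _).symm)
  exact h2

theorem two_le_cr [Finite ↥(E Q)] (hM : IsPModular p M) (hp2 : p ≠ 2) {v : ι → F} (hv : Q v ≠ 0) {x y c : ↥(E Q)}
    (hxy : Commute x y) (hxc : Commute x c) (hy : y ^ p = 1) (hy1 : y ≠ 1) (hc : c ^ 4 = 1) (hcy : c * y * c⁻¹ = y⁻¹) :
    2 ≤ blockRank p (principalBlock M ↥(Subgroup.centralizer ({cr hv x} : Set ↥(E Q)))) := by
  refine two_le hM hp2 (hxy.map (cr hv)) (hxc.map (cr hv)) ?_ (cr_ne hv hy1) ?_ ?_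
  · rw [← map_pow, hy, map_one]
  · rw [← map_pow, hc, map_one]
  · rw [← map_inv, ← map_mul, ← map_mul, hcy, map_inv]

/-- **the bound** -/
theorem four_bound (h : Mdl φ Q Q₁ ψ) (hM : IsPModular p M) (hp2 : p ≠ 2)
    (hd : Cfsg.Agent.H200.LinFix.Ordd p (Nat.card F) 4) (hQ : (polarBilin Q).Nondegenerate) (hι : Fintype.card ι = 8)
    (hnm : ∀ z : Kˣ, z ^ p = 1 → nm φ (z : K) = 1) (hsw : cj ψ (sw F K) ∈ E Q) {H : ℕ} (a : Fin H → Kˣ)
    (ha : ∀ i, a i ^ p = 1) (ha1 : ∀ i, a i ≠ 1) (hcl : ∀ i j, IsConjRoot F (a i : K) (a j : K) → i = j) (z : Kˣ)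
    (hz : z ^ p = 1) (hz1 : z ≠ 1) : 1 + (2 * H + ((H * H + H) + 2 * H)) ≤ kB M ↥(E Q) := by
  have hfinV : Finite ((ι → F) ≃ₗ[F] (ι → F)) :=
    Finite.of_injective (fun g : (ι → F) ≃ₗ[F] (ι → F) => (g : (ι → F) → (ι → F))) DFunLike.coe_injective
  have hfinE : Finite ↥(E Q) := inferInstance
  have hpo : Odd p := (Fact.out : p.Prime).odd_of_ne_two hp2
  -- a reflection
  obtain ⟨x₀, y₀, hxy⟩ := h.good.exists_hyp
  have hv : Q (x₀ + y₀) ≠ 0 := by
    rw [Q_add, hxy.left, hxy.right, hxy.pair]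
    simp
  -- the elements
  have hmem : ∀ b : Kˣ × Kˣ, b ^ p = 1 → cj ψ (dg b) ∈ E Q := fun b hb =>
    h.dg_mem_E (hnm _ (congrArg Prod.fst hb)) (hnm _ (congrArg Prod.snd hb)) hpo hb
  have hvl : ∀ o, vl a o ^ p = 1 := by
    rintro (_ | i)
    · exact one_pow p
    · exact ha i
  have hvl2 : ∀ o : Option (Fin H) × Option (Fin H), (vl a o.1, vl a o.2) ^ p = 1 := fun o =>
    Prod.ext (hvl o.1) (hvl o.2)
  set X : Option (Fin H) × Option (Fin H) → ↥(E Q) := fun o => ⟨cj ψ (dg (vl a o.1, vl a o.2)), hmem _ (hvl2 o)⟩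
    with hX
  have hXv : ∀ o, (X o).1 = cj ψ (dg (vl a o.1, vl a o.2)) := fun o => rfl
  set f : J H → ↥(E Q) := fun j => if mi j then cr hv (X (pr j)) else X (pr j) with hf
  have hsupp : ∀ (j : J H) (k : K), Supp (f j).1 k ↔ Supp (X (pr j)).1 k := by
    intro j k
    by_cases hj : mi j
    · have h1 : (f j).1 = refl Q (x₀ + y₀) hv * (X (pr j)).1 * (refl Q (x₀ + y₀) hv)⁻¹ := by
        simp only [hf, if_pos hj]; rfl
      exact supp_conj_iff h1.symm
    · have h1 : (f j).1 = (X (pr j)).1 := by simp only [hf, if_neg hj]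
      rw [h1]
  -- conjugate elements have the same components
  have hcomp : ∀ j j' : J H, IsConj (f j) (f j') → ((pr j).1 = (pr j').1 ∨ (pr j).1 = (pr j').2) ∧
      ((pr j).2 = (pr j').1 ∨ (pr j).2 = (pr j').2) := by
    intro j j' hjj
    obtain ⟨g, hg⟩ := isConj_iff.1 hjj
    have hg' : g.1 * (f j).1 * g.1⁻¹ = (f j').1 := congrArg Subtype.val hg
    have h1 : ∀ k : K, Supp (X (pr j)).1 k → Supp (X (pr j')).1 k := fun k hk =>
      (hsupp j' k).1 (((hsupp j k).2 hk).conj hg')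
    constructor
    · have h2 := supp_dg (h1 _ (supp_fst (vl a (pr j).1, vl a (pr j).2)))
      exact h2.imp (vl_conj ha1 hcl) (vl_conj ha1 hcl)
    · have h2 := supp_dg (h1 _ (supp_snd (vl a (pr j).1, vl a (pr j).2)))
      exact h2.imp (vl_conj ha1 hcl) (vl_conj ha1 hcl)
  have hinj : ∀ j j' : J H, IsConj (f j) (f j') → j = j' := by
    intro j j' hjj
    obtain ⟨h1, h2⟩ := hcomp j j' hjj
    obtain ⟨h3, h4⟩ := hcomp j' j hjj.symm
    rcases eq_of_pr h1 h2 h3 h4 with h5 | ⟨h5, h6, h7, h8⟩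
    · exact h5
    exfalso
    have hne : ∀ o : Option (Fin H), o ≠ none → vl a o ≠ 1 := by
      rintro (_ | i) ho
      · exact absurd rfl ho
      · exact ha1 i
    have key : ∀ g : ↥(E Q), g.1 * (X (pr j)).1 * g.1⁻¹ =
        refl Q (x₀ + y₀) hv * (X (pr j)).1 * (refl Q (x₀ + y₀) hv)⁻¹ → False := fun g hg =>
      h.not_conj hd hQ hι (hvl2 (pr j)) (hne _ h5) (hne _ h6) hv g.2 hg
    obtain ⟨g, hg⟩ := isConj_iff.1 hjj
    obtain ⟨g', hg'⟩ := isConj_iff.1 hjj.symm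
    by_cases hj : mi j
    · have hj' : ¬ mi j' := h8.1 hj
      have e1 : f j = cr hv (X (pr j)) := by simp only [hf, if_pos hj]
      have e2 : f j' = X (pr j) := by simp only [hf, if_neg hj', h7]
      rw [e1, e2] at hg'
      exact key g' (congrArg Subtype.val hg')
    · have hj' : mi j' := by
        by_contra h9
        exact hj (h8.2 h9)
      have e1 : f j = X (pr j) := by simp only [hf, if_neg hj]
      have e2 : f j' = cr hv (X (pr j)) := by simp only [hf, if_pos hj', h7]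
      rw [e1, e2] at hg
      exact key g (congrArg Subtype.val hg)
  -- the ranks
  have hzz : ((z, z⁻¹) : Kˣ × Kˣ) ^ p = 1 := Prod.ext hz (by
    change z⁻¹ ^ p = 1
    rw [inv_pow, hz, inv_one])
  have h1z : ((1, z) : Kˣ × Kˣ) ^ p = 1 := Prod.ext (one_pow p) hz
  set Y : ↥(E Q) := ⟨cj ψ (dg (z, z⁻¹)), hmem _ hzz⟩ with hY
  set Y' : ↥(E Q) := ⟨cj ψ (dg (1, z)), hmem _ h1z⟩ with hY'
  have hdgp : ∀ (b : Kˣ × Kˣ), b ^ p = 1 → ∀ hb, (⟨cj ψ (dg b), hb⟩ : ↥(E Q)) ^ p = 1 := fun b hb1 hb =>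
    Subtype.ext (by
      change (cj ψ (dg b)) ^ p = 1
      rw [← map_pow, ← map_pow, hb1, map_one, map_one])
  have hdgc : ∀ (b b' : Kˣ × Kˣ) (hb hb'), Commute (⟨cj ψ (dg b), hb⟩ : ↥(E Q)) ⟨cj ψ (dg b'), hb'⟩ :=
    fun b b' hb hb' => Subtype.ext (by
      change cj ψ (dg b) * cj ψ (dg b') = cj ψ (dg b') * cj ψ (dg b)
      rw [← map_mul, ← map_mul, ← map_mul, ← map_mul, mul_comm])
  have hYne : Y ≠ 1 := by
    intro h1
    have h2 : cj ψ (dg (z, z⁻¹)) = cj ψ (dg 1) := by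
      rw [map_one, map_one]
      exact congrArg Subtype.val h1
    exact hz1 (congrArg Prod.fst (dg_injective (cj_injective ψ h2)))
  have hYne' : Y' ≠ 1 := by
    intro h1
    have h2 : cj ψ (dg (1, z)) = cj ψ (dg 1) := by
      rw [map_one, map_one]
      exact congrArg Subtype.val h1
    exact hz1 (congrArg Prod.snd (dg_injective (cj_injective ψ h2)))
  set CA : ↥(E Q) := ⟨cA φ ψ, h.cA_mem_E⟩ with hCA
  set CB : ↥(E Q) := ⟨cj ψ (sw F K), hsw⟩ with hCB
  have hCA4 : CA ^ 4 = 1 := Subtype.ext h.cA_sq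
  have hCB4 : CB ^ 4 = 1 := Subtype.ext sw_four
  have hCAY : CA * Y' * CA⁻¹ = Y'⁻¹ := Subtype.ext (by
    change cA φ ψ * cj ψ (dg (1, z)) * (cA φ ψ)⁻¹ = (cj ψ (dg (1, z)))⁻¹
    rw [h.cA_conj (hnm z hz), map_inv, map_inv])
  have hCBY : CB * Y * CB⁻¹ = Y⁻¹ := Subtype.ext (by
    change cj ψ (sw F K) * cj ψ (dg (z, z⁻¹)) * (cj ψ (sw F K))⁻¹ = (cj ψ (dg (z, z⁻¹)))⁻¹
    rw [sw_conj, ← map_inv, ← map_inv]
    congr 2)
  have hCAX : ∀ i, Commute (X (some i, none)) CA := fun i => Subtype.ext (h.cA_comm (a i)).symm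
  have hCBX : ∀ i, Commute (X (some i, some i)) CB := fun i => by
    have h1 := sw_conj (ψ := ψ) (a i, a i)
    rw [mul_inv_eq_iff_eq_mul] at h1
    exact Subtype.ext h1.symm
  have hl : ∀ j : J H, lo j ≤ blockRank p (principalBlock M ↥(Subgroup.centralizer ({f j} : Set ↥(E Q)))) := by
    rintro (_ | i | ⟨i, k⟩ | i)
    · exact one_le hM _
    · exact two_le hM hp2 (hdgc _ _ _ _) (hCAX i) (hdgp _ h1z _) hYne' hCA4 hCAY
    · by_cases hik : i = k
      · subst hik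
        have e1 : lo (Sum.inr (Sum.inr (Sum.inl (i, i))) : J H) = 2 := if_pos rfl
        have e2 : f (Sum.inr (Sum.inr (Sum.inl (i, i)))) = X (some i, some i) := by
          simp only [hf, mi, lt_irrefl, if_false, pr, min_self, max_self]
        rw [e1, e2]
        exact two_le hM hp2 (hdgc _ _ _ _) (hCBX i) (hdgp _ hzz _) hYne hCB4 hCBY
      · have e1 : lo (Sum.inr (Sum.inr (Sum.inl (i, k))) : J H) = 1 := if_neg hik
        rw [e1]
        exact one_le hM _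
    · exact two_le_cr hM hp2 hv (hdgc _ _ _ _) (hCBX i) (hdgp _ hzz _) hYne hCB4 hCBY
  have hfp : ∀ j, f j ^ p = 1 := by
    intro j
    have h1 : X (pr j) ^ p = 1 := hdgp _ (hvl2 _) _
    by_cases hj : mi j
    · simp only [hf, if_pos hj]
      rw [← map_pow, h1, map_one]
    · simp only [hf, if_neg hj]
      exact h1
  have := family_le hM f hfp hinj lo hl
  rwa [sum_lo] at this

end

end Cfsg.Agent.H587.KB8.Mdl
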